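import Mathlib
import Cfsg.Agent.S0143
import Cfsg.Agent.Lib.Helper65.Cover2

set_option autoImplicit false

namespace Cfsg.Agent.Lib.Helper67.PReg

universe u

/-- Every `p`-regular element has a centralizer of `p`-power index. -/
def PRC (p : ℕ) (G : Type*) [Group G] : Prop :=
  ∀ x : G, (orderOf x).Coprime p → ∃ k : ℕ, (Subgroup.centralizer ({x} : Set G)).index = p ^ k

/-- For a normal subgroup `N`, the index `|N : N ∩ C|` divides `|G : C|`. -/
theorem relIndex_dvd_index_of_normal_right {G : Type*} [Group G] [Finite G] (C N : Subgroup G)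
    [N.Normal] : C.relIndex N ∣ C.index := by
  have h1 : C.relIndex (C ⊔ N) ∣ C.index := Subgroup.relIndex_dvd_index_of_le le_sup_left
  have h2 : C.relIndex (C ⊔ N) = C.relIndex N := by
    have a1 : Nat.card (C ⊓ N : Subgroup G) * C.relIndex N = Nat.card N := by
      have := Subgroup.relIndex_mul_relIndex (⊥ : Subgroup G) (C ⊓ N) N bot_le inf_le_right
      rw [Subgroup.relIndex_bot_left, Subgroup.relIndex_bot_left, Subgroup.inf_relIndex_right]
        at this
      exact this
    have a2 : Nat.card (C ⊓ N : Subgroup G) * N.relIndex C = Nat.card C := by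
      have := Subgroup.relIndex_mul_relIndex (⊥ : Subgroup G) (N ⊓ C) C bot_le inf_le_right
      rw [Subgroup.relIndex_bot_left, Subgroup.relIndex_bot_left, Subgroup.inf_relIndex_right,
        inf_comm] at this
      exact this
    have a3 : N.relIndex (C ⊔ N) = N.relIndex C := Subgroup.relIndex_sup_right C N
    have a4 : Nat.card N * N.relIndex (C ⊔ N) = Nat.card (C ⊔ N : Subgroup G) := by
      have := Subgroup.relIndex_mul_relIndex (⊥ : Subgroup G) N (C ⊔ N) bot_le le_sup_right
      rwa [Subgroup.relIndex_bot_left, Subgroup.relIndex_bot_left] at this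
    have a5 : Nat.card C * C.relIndex (C ⊔ N) = Nat.card (C ⊔ N : Subgroup G) := by
      have := Subgroup.relIndex_mul_relIndex (⊥ : Subgroup G) C (C ⊔ N) bot_le le_sup_left
      rwa [Subgroup.relIndex_bot_left, Subgroup.relIndex_bot_left] at this
    have hCpos : 0 < Nat.card C := Nat.card_pos
    apply Nat.eq_of_mul_eq_mul_left hCpos
    calc Nat.card C * C.relIndex (C ⊔ N) = Nat.card (C ⊔ N : Subgroup G) := a5
      _ = Nat.card N * N.relIndex C := by rw [← a4, a3]
      _ = (Nat.card (C ⊓ N : Subgroup G) * C.relIndex N) * N.relIndex C := by rw [a1]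
      _ = (Nat.card (C ⊓ N : Subgroup G) * N.relIndex C) * C.relIndex N := by ring
      _ = Nat.card C * C.relIndex N := by rw [a2]
  rw [← h2]
  exact h1

theorem centralizer_subtype_eq {G : Type*} [Group G] (N : Subgroup G) (x : N) :
    Subgroup.centralizer ({x} : Set N) =
      (Subgroup.centralizer ({(x : G)} : Set G)).subgroupOf N := by
  ext c
  rw [Subgroup.mem_centralizer_singleton_iff, Subgroup.mem_subgroupOf,
    Subgroup.mem_centralizer_singleton_iff]
  constructor
  · intro h
    exact congrArg (fun t : ↥N => (t : G)) h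
  · intro h
    exact Subtype.ext h

theorem PRC.normal {G : Type*} [Group G] [Finite G] {p : ℕ} (hp : p.Prime) (h : PRC p G)
    (N : Subgroup G) [N.Normal] : PRC p N := by
  intro x hx
  obtain ⟨k, hk⟩ := h (x : G) (by rwa [Subgroup.orderOf_coe])
  have h1 : (Subgroup.centralizer ({x} : Set N)).index ∣ p ^ k := by
    rw [centralizer_subtype_eq, ← hk]
    exact relIndex_dvd_index_of_normal_right _ N
  obtain ⟨j, -, hj⟩ := (Nat.dvd_prime_pow hp).mp h1
  exact ⟨j, hj⟩

theorem eq_one_of_coprime_of_pow' {G : Type*} [Group G] {p : ℕ} {c : G}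
    (h1 : (orderOf c).Coprime p) (k : ℕ) (h2 : c ^ p ^ k = 1) : c = 1 := by
  have h3 : orderOf c ∣ p ^ k := orderOf_dvd_of_pow_eq_one h2
  have h4 : (orderOf c).Coprime (p ^ k) := Nat.Coprime.pow_right k h1
  exact orderOf_eq_one_iff.mp (Nat.Coprime.eq_one_of_dvd h4 h3)

theorem PRC.quotient {G : Type*} [Group G] [Finite G] {p : ℕ} (hp : p.Prime) (h : PRC p G)
    (N : Subgroup G) [N.Normal] : PRC p (G ⧸ N) := by
  intro xb hxb
  obtain ⟨x, rfl⟩ := QuotientGroup.mk_surjective xb
  obtain ⟨j, m', u, v, hcop, ho1, ho2, hdec⟩ :=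
    Cfsg.Agent.Lib.Helper65.exists_pPart_decomp x (orderOf_pos x).ne' p hp
  set f := QuotientGroup.mk' N with hf
  have hfx : f x = (x : G ⧸ N) := rfl
  have hfa : f ((x ^ m') ^ v) = 1 := by
    apply eq_one_of_coprime_of_pow' _ j
    · rw [← map_pow, ← zpow_natCast, ← zpow_mul, mul_comm, zpow_mul, zpow_natCast, ← ho1,
        pow_orderOf_eq_one, one_zpow, map_one]
    · have hmem : f ((x ^ m') ^ v) ∈ Subgroup.zpowers (f x) := by
        rw [map_zpow, map_pow]
        exact Subgroup.zpow_mem _ (Subgroup.pow_mem _ (Subgroup.mem_zpowers _) _) _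
      exact Nat.Coprime.coprime_dvd_left (orderOf_dvd_of_mem_zpowers hmem) hxb
  set b := (x ^ p ^ j) ^ u with hb
  have hxb' : (x : G ⧸ N) = f b := by
    have : f x = f b * f ((x ^ m') ^ v) := by rw [← map_mul, ← hdec]
    rw [hfa, mul_one] at this
    exact this
  have hbcop : (orderOf b).Coprime p := by
    have h1 : orderOf b ∣ m' := by
      rw [← ho2]
      exact orderOf_dvd_of_mem_zpowers (Subgroup.zpow_mem _ (Subgroup.mem_zpowers _) _)
    exact Nat.Coprime.coprime_dvd_left h1 hcop.symm
  obtain ⟨k, hk⟩ := h b hbcop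
  have h1 : (Subgroup.centralizer ({f b} : Set (G ⧸ N))).index ∣ p ^ k := by
    rw [← hk]
    have h2 : (Subgroup.centralizer ({b} : Set G)).map f ≤
        Subgroup.centralizer ({f b} : Set (G ⧸ N)) := by
      rintro _ ⟨c, hc, rfl⟩
      rw [SetLike.mem_coe, Subgroup.mem_centralizer_singleton_iff] at hc
      rw [Subgroup.mem_centralizer_singleton_iff, ← map_mul, ← map_mul, hc]
    exact (Subgroup.index_dvd_of_le h2).trans
      (Subgroup.index_map_dvd _ (QuotientGroup.mk'_surjective N))
  obtain ⟨i, -, hi⟩ := (Nat.dvd_prime_pow hp).mp h1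
  exact ⟨i, by rw [hxb']; exact hi⟩

/-- A group in which all `p`-regular classes have `p`-power size is solvable. -/
theorem solvable_aux (p : ℕ) (hp : p.Prime) : ∀ n : ℕ, ∀ (G : Type u) [Group G] [Finite G],
    Nat.card G = n → PRC p G → Group.IsSolvable G := by
  intro n
  induction n using Nat.strong_induction_on with
  | _ n IH =>
    intro G _ _ hn h
    have := Fact.mk hp
    by_cases hsimp : IsSimpleGroup G
    · by_cases hex : ∃ g : G, g ≠ 1 ∧ (orderOf g).Coprime p
      · obtain ⟨g, hg1, hgp⟩ := hex
        obtain ⟨k, hk⟩ := h g hgp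
        have hprime : (Nat.card G).Prime := Cfsg.Agent.S0143.result p k hp g hg1 hk
        have : Fact (Nat.card G).Prime := ⟨hprime⟩
        have hcyc : IsCyclic G := isCyclic_of_prime_card rfl
        have hc : IsMulCommutative G := IsCyclic.isMulCommutative
        exact Group.isSolvable_of_comm (fun a b => hc.is_comm.comm a b)
      · have hP : IsPGroup p G := by
          intro g
          obtain ⟨j, m', u, v, hcop, ho1, ho2, hdec⟩ :=
            Cfsg.Agent.Lib.Helper65.exists_pPart_decomp g (orderOf_pos g).ne' p hp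
          refine ⟨j, ?_⟩
          by_contra hne
          exact hex ⟨g ^ p ^ j, hne, by rw [ho2]; exact hcop.symm⟩
        have := hP.isNilpotent
        infer_instance
    · by_cases htriv : Subsingleton G
      · exact Group.isSolvable_of_comm (fun a b => Subsingleton.elim _ _)
      · have hnt : Nontrivial G := not_subsingleton_iff_nontrivial.mp htriv
        have hexN : ∃ N : Subgroup G, N.Normal ∧ N ≠ ⊥ ∧ N ≠ ⊤ := by
          by_contra hcon
          apply hsimp
          refine { exists_pair_ne := hnt.exists_pair_ne, eq_bot_or_eq_top_of_normal := ?_ }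
          intro N hN
          by_contra h'
          rw [not_or] at h'
          exact hcon ⟨N, hN, h'.1, h'.2⟩
        obtain ⟨N, hNn, hNbot, hNtop⟩ := hexN
        have hN1 : Nat.card N < n := by
          rw [← hn]
          have h1 : Nat.card N ≤ Nat.card G := Subgroup.card_le_card_group N
          have h2 : Nat.card N ≠ Nat.card G := fun h => hNtop (Subgroup.eq_top_of_card_eq N h)
          omega
        have hQ1 : Nat.card (G ⧸ N) < n := by
          rw [← hn]
          have h1 := Subgroup.card_eq_card_quotient_mul_card_subgroup N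
          have h2 : 1 < Nat.card N := (Subgroup.one_lt_card_iff_ne_bot N).mpr hNbot
          have h3 : 0 < Nat.card (G ⧸ N) := Nat.card_pos
          nlinarith
        have s1 : Group.IsSolvable N := IH _ hN1 N rfl (h.normal hp N)
        have s2 : Group.IsSolvable (G ⧸ N) := IH _ hQ1 (G ⧸ N) rfl (h.quotient hp N)
        exact Group.isSolvable_of_ker_le_range N.subtype (QuotientGroup.mk' N)
          (by rw [QuotientGroup.ker_mk', Subgroup.range_subtype])

end Cfsg.Agent.Lib.Helper67.PReg
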