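import Mathlib
import Cfsg.Agent.Lib.Helper67.PRegA
import Cfsg.Agent.Lib.Helper1.HallLe
import Cfsg.Agent.Lib.Helper97.SchmidtStruct
import Cfsg.Agent.Lib.Helper67.SylowLemmas

set_option autoImplicit false

namespace Cfsg.Agent.Lib.Helper67.PReg

open Pointwise

universe u

theorem card_inf_mul_relIndex {G : Type*} [Group G] (H M : Subgroup G) :
    Nat.card (H ⊓ M : Subgroup G) * M.relIndex H = Nat.card H := by
  have := Subgroup.relIndex_mul_relIndex (⊥ : Subgroup G) (M ⊓ H) H bot_le inf_le_right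
  rw [Subgroup.relIndex_bot_left, Subgroup.relIndex_bot_left, Subgroup.inf_relIndex_right,
    inf_comm] at this
  exact this

/-- In a solvable group all of whose `p`-regular classes have `p`-power size, the Hall
`p'`-subgroups are abelian. -/
theorem hall_comm_aux (p : ℕ) (hp : p.Prime) : ∀ n : ℕ, ∀ (G : Type u) [Group G] [Finite G]
    [Group.IsSolvable G], Nat.card G = n → PRC p G → ∀ (m a : ℕ), Nat.card G = m * p ^ a →
    m.Coprime p → ∀ H : Subgroup G, Nat.card H = m → ∀ x ∈ H, ∀ y ∈ H, x * y = y * x := by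
  intro n
  induction n using Nat.strong_induction_on with
  | _ n IH =>
    intro G _ _ _ hn h m a hG hmp H hH x hx y hy
    by_cases htriv : Subsingleton G
    · exact Subsingleton.elim _ _
    have hnt : Nontrivial G := not_subsingleton_iff_nontrivial.mp htriv
    obtain ⟨M, hMn, hMr⟩ := Cfsg.Agent.Lib.Helper97.exists_normal_prime_index (G := G)
    have hcardM : Nat.card M * M.index = Nat.card G := M.card_mul_index
    have hMlt : Nat.card M < n := by
      rw [← hn, ← hcardM]
      have h1 : 0 < Nat.card M := Nat.card_pos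
      have h2 := hMr.two_le
      nlinarith
    have hPM : PRC p M := h.normal hp M
    have hmpos : 0 < m := by
      rcases Nat.eq_zero_or_pos m with h0 | h0
      · rw [h0, zero_mul] at hG
        exact absurd hG Nat.card_pos.ne'
      · exact h0
    have hrel : ∀ H0 : Subgroup G, M.relIndex H0 ∣ M.index :=
      fun H0 => Subgroup.relIndex_dvd_index_of_normal M H0
    by_cases hrp : M.index = p
    · have hHM : H ≤ M := by
        rw [← Subgroup.relIndex_eq_one]
        have h1 := hrel H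
        rw [hrp] at h1
        have h2 : M.relIndex H ∣ Nat.card H := Subgroup.relIndex_dvd_card M H
        rw [hH] at h2
        exact Nat.Coprime.eq_one_of_dvd (Nat.Coprime.coprime_dvd_left h2 hmp) h1
      have ha : a ≠ 0 := by
        rintro rfl
        rw [pow_zero, mul_one] at hG
        have h1 : p ∣ m := by
          rw [← hG, ← hcardM, hrp]
          exact dvd_mul_left p _
        exact (Nat.Prime.coprime_iff_not_dvd hp).mp hmp.symm h1
      have hM' : Nat.card M = m * p ^ (a - 1) := by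
        have hcardM' : Nat.card M * p = Nat.card G := by
          rw [← hrp]
          exact hcardM
        have hpa : p ^ a = p ^ (a - 1) * p := by
          rw [← pow_succ]
          congr 1
          omega
        have h1 : Nat.card M * p = m * p ^ (a - 1) * p := by
          rw [hcardM', hG, hpa, mul_assoc]
        exact Nat.eq_of_mul_eq_mul_right hp.pos h1
      have hH' : Nat.card (H.subgroupOf M) = m := by
        rw [← hH]
        exact Nat.card_congr (Subgroup.subgroupOfEquivOfLe hHM).toEquiv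
      have := IH _ hMlt (↥M) rfl hPM m (a - 1) hM' hmp (H.subgroupOf M) hH' ⟨x, hHM hx⟩
        (Subgroup.mem_subgroupOf.mpr hx) ⟨y, hHM hy⟩ (Subgroup.mem_subgroupOf.mpr hy)
      exact congrArg (fun t : ↥M => (t : G)) this
    · have hrm : M.index ∣ m := by
        have h1 : M.index ∣ m * p ^ a := by
          rw [← hG, ← hcardM]
          exact dvd_mul_left _ _
        rcases (Nat.Prime.dvd_mul hMr).mp h1 with h2 | h2
        · exact h2
        · exact absurd ((Nat.prime_dvd_prime_iff_eq hMr hp).mp (hMr.dvd_of_dvd_pow h2)) hrp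
      obtain ⟨m1, hm1⟩ := hrm
      have hm1pos : 0 < m1 := by
        rcases Nat.eq_zero_or_pos m1 with h0 | h0
        · rw [h0, mul_zero] at hm1
          omega
        · exact h0
      have hm1p : m1.Coprime p :=
        Nat.Coprime.coprime_dvd_left (Dvd.intro_left _ hm1.symm) hmp
      have hM' : Nat.card M = m1 * p ^ a := by
        have h1 : Nat.card M * M.index = m1 * p ^ a * M.index := by
          rw [hcardM, hG, hm1]
          ring
        exact Nat.eq_of_mul_eq_mul_right hMr.pos h1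
      have hHall : ∀ H0 : Subgroup G, Nat.card H0 = m →
          Nat.card (H0 ⊓ M : Subgroup G) = m1 ∧ ¬ H0 ≤ M := by
        intro H0 hH0
        have h1 := card_inf_mul_relIndex H0 M
        have h2 : M.relIndex H0 = 1 ∨ M.relIndex H0 = M.index :=
          (Nat.dvd_prime hMr).mp (hrel H0)
        have hne1 : M.relIndex H0 ≠ 1 := by
          intro h3
          have hle : H0 ≤ M := Subgroup.relIndex_eq_one.mp h3
          have h4 : Nat.card H0 ∣ Nat.card M := Subgroup.card_dvd_of_le hle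
          rw [hH0, hM'] at h4
          have h5 : m ∣ m1 := Nat.Coprime.dvd_of_dvd_mul_right (Nat.Coprime.pow_right a hmp) h4
          have h6 : m ≤ m1 := Nat.le_of_dvd hm1pos h5
          have h7 := hMr.two_le
          rw [hm1] at h6
          nlinarith
        have h3 : M.relIndex H0 = M.index := h2.resolve_left hne1
        rw [h3, hH0, hm1] at h1
        constructor
        · have h4 : Nat.card (H0 ⊓ M : Subgroup G) * M.index = m1 * M.index := by
            rw [h1]
            ring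
          exact Nat.eq_of_mul_eq_mul_right hMr.pos h4
        · intro hle
          exact hne1 (Subgroup.relIndex_eq_one.mpr hle)
      have hcommM : ∀ H0 : Subgroup G, Nat.card H0 = m → ∀ c1 ∈ H0, c1 ∈ M → ∀ c2 ∈ H0,
          c2 ∈ M → c1 * c2 = c2 * c1 := by
        intro H0 hH0 c1 h1 h1M c2 h2 h2M
        have hcard : Nat.card ((H0 ⊓ M).subgroupOf M) = m1 := by
          rw [← (hHall H0 hH0).1]
          exact Nat.card_congr (Subgroup.subgroupOfEquivOfLe inf_le_right).toEquiv
        have := IH _ hMlt (↥M) rfl hPM m1 a hM' hm1p ((H0 ⊓ M).subgroupOf M) hcard ⟨c1, h1M⟩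
          (Subgroup.mem_subgroupOf.mpr ⟨h1, h1M⟩) ⟨c2, h2M⟩
          (Subgroup.mem_subgroupOf.mpr ⟨h2, h2M⟩)
        exact congrArg (fun t : ↥M => (t : G)) this
      obtain ⟨x0, hx0H, hx0M⟩ : ∃ x0 ∈ H, x0 ∉ M := by
        by_contra hcon
        apply (hHall H hH).2
        intro z hz
        by_contra hzM
        exact hcon ⟨z, hz, hzM⟩
      have hx0cop : (orderOf x0).Coprime p := by
        have h1 : orderOf x0 ∣ Nat.card H := Subgroup.orderOf_dvd_natCard H hx0H
        rw [hH] at h1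
        exact Nat.Coprime.coprime_dvd_left h1 hmp
      obtain ⟨k, hk⟩ := h x0 hx0cop
      set C := Subgroup.centralizer ({x0} : Set G) with hC
      have hCcard : Nat.card C * p ^ k = m * p ^ a := by rw [← hk, C.card_mul_index, hG]
      have hka : k ≤ a := by
        have h1 : p ^ k ∣ m * p ^ a := Dvd.intro_left _ hCcard
        have h2 : p ^ k ∣ p ^ a :=
          Nat.Coprime.dvd_of_dvd_mul_left (Nat.Coprime.pow_left k hmp.symm) h1
        exact (Nat.pow_dvd_pow_iff_le_right hp.one_lt).mp h2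
      have hCcard' : Nat.card C = m * p ^ (a - k) := by
        have h1 : Nat.card C * p ^ k = m * p ^ (a - k) * p ^ k := by
          rw [hCcard, mul_assoc, ← pow_add]
          congr 2
          omega
        exact Nat.eq_of_mul_eq_mul_right (pow_pos hp.pos k) h1
      have hx0C : x0 ∈ C := by rw [hC, Subgroup.mem_centralizer_singleton_iff]
      have hKcop : (Nat.card (Subgroup.zpowers (⟨x0, hx0C⟩ : C))).Coprime (p ^ (a - k)) := by
        rw [Nat.card_zpowers, Subgroup.orderOf_mk]
        exact Nat.Coprime.pow_right _ hx0cop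
      obtain ⟨H', hH'card, hH'le⟩ := Cfsg.Agent.Lib.Helper1.hall_le (G := C) m (p ^ (a - k))
        hCcard' (Nat.Coprime.pow_right _ hmp) (Subgroup.zpowers (⟨x0, hx0C⟩ : C)) hKcop
      set H1 := H'.map C.subtype with hH1
      have hH1card : Nat.card H1 = m := by
        rw [hH1, Subgroup.card_subtype]
        exact hH'card
      have hx0H1 : x0 ∈ H1 := ⟨⟨x0, hx0C⟩, hH'le (Subgroup.mem_zpowers _), rfl⟩
      have hcen : ∀ z ∈ H1, Commute x0 z := by
        rintro _ ⟨c, -, rfl⟩
        have h1 : (c : G) ∈ Subgroup.centralizer ({x0} : Set G) := c.2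
        rw [Subgroup.mem_centralizer_singleton_iff] at h1
        exact h1.symm
      have hquot : ∀ z : G, ∃ e : ℤ, z * x0 ^ e ∈ M := by
        intro z
        have hcardQ : Nat.card (G ⧸ M) = M.index := (Subgroup.index_eq_card M).symm
        have : Fact M.index.Prime := ⟨hMr⟩
        have hne : (QuotientGroup.mk x0 : G ⧸ M) ≠ 1 :=
          fun h1 => hx0M ((QuotientGroup.eq_one_iff x0).mp h1)
        have hmem := mem_zpowers_of_prime_card hcardQ hne
          (g' := (QuotientGroup.mk z : G ⧸ M)⁻¹)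
        obtain ⟨e, he⟩ := Subgroup.mem_zpowers_iff.mp hmem
        refine ⟨e, ?_⟩
        rw [← QuotientGroup.eq_one_iff, QuotientGroup.mk_mul, QuotientGroup.mk_zpow, he,
          mul_inv_cancel]
      have hH1comm : ∀ z1 ∈ H1, ∀ z2 ∈ H1, z1 * z2 = z2 * z1 := by
        intro z1 hz1 z2 hz2
        obtain ⟨e1, he1⟩ := hquot z1
        obtain ⟨e2, he2⟩ := hquot z2
        have hw1 : x0 ^ e1 ∈ H1 := H1.zpow_mem hx0H1 e1
        have hw2 : x0 ^ e2 ∈ H1 := H1.zpow_mem hx0H1 e2
        have hc1 : z1 * x0 ^ e1 ∈ H1 := H1.mul_mem hz1 hw1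
        have hc2 : z2 * x0 ^ e2 ∈ H1 := H1.mul_mem hz2 hw2
        have hcc : Commute (z1 * x0 ^ e1) (z2 * x0 ^ e2) :=
          hcommM H1 hH1card _ hc1 he1 _ hc2 he2
        have hz1e : (z1 * x0 ^ e1) * x0 ^ (-e1) = z1 := by
          rw [zpow_neg, mul_inv_cancel_right]
        have hz2e : (z2 * x0 ^ e2) * x0 ^ (-e2) = z2 := by
          rw [zpow_neg, mul_inv_cancel_right]
        have hA : ∀ e : ℤ, ∀ z ∈ H1, Commute (x0 ^ e) z :=
          fun e z hz => (hcen z hz).zpow_left e
        have hfin : Commute ((z1 * x0 ^ e1) * x0 ^ (-e1)) ((z2 * x0 ^ e2) * x0 ^ (-e2)) := by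
          apply Commute.mul_left
          · apply Commute.mul_right hcc
            exact (hA (-e2) _ hc1).symm
          · apply Commute.mul_right
            · exact hA (-e1) _ hc2
            · exact (Commute.refl x0).zpow_zpow _ _
        rw [hz1e, hz2e] at hfin
        exact hfin.eq
      obtain ⟨g, hg⟩ := Cfsg.Agent.Lib.Helper1.hall_conj m (p ^ a) hG
        (Nat.Coprime.pow_right a hmp) H1 H hH1card hH
      rw [← hg] at hx hy
      obtain ⟨z1, hz1, rfl⟩ := (Subgroup.mem_smul_pointwise_iff_exists _ _ _).mp hx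
      obtain ⟨z2, hz2, rfl⟩ := (Subgroup.mem_smul_pointwise_iff_exists _ _ _).mp hy
      simp only [MulAut.smul_def, MulAut.conj_apply]
      have hz := hH1comm z1 hz1 z2 hz2
      calc g * z1 * g⁻¹ * (g * z2 * g⁻¹) = g * (z1 * z2) * g⁻¹ := by group
        _ = g * (z2 * z1) * g⁻¹ := by rw [hz]
        _ = g * z2 * g⁻¹ * (g * z1 * g⁻¹) := by group

/-- If `H` is an abelian Hall `p'`-subgroup, every `p`-regular element of an overgroup `K` of `H`
is `K`-conjugate into `H`. -/
theorem exists_conj_mem_hall {G : Type*} [Group G] [Finite G] {p : ℕ} (hp : p.Prime)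
    (H : Subgroup G) (hab : ∀ a ∈ H, ∀ b ∈ H, a * b = b * a) (k : ℕ) (hidx : H.index = p ^ k) :
    ∀ N : ℕ, ∀ K : Subgroup G, H ≤ K → ∀ x ∈ K, x ^ N = 1 → N.Coprime p →
      ∃ d ∈ K, d * x * d⁻¹ ∈ H := by
  intro N
  induction N using Nat.strong_induction_on with
  | _ N IH =>
    intro K hHK x hxK hxN hNp
    by_cases hN1 : N = 1
    · refine ⟨1, K.one_mem, ?_⟩
      rw [hN1, pow_one] at hxN
      rw [hxN]
      simp
    have hN0 : N ≠ 0 := by
      rintro rfl
      rw [Nat.coprime_zero_left] at hNp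
      exact hp.one_lt.ne' hNp
    have hqp : N.minFac.Prime := Nat.minFac_prime hN1
    have hqN : N.minFac ∣ N := Nat.minFac_dvd N
    obtain ⟨q, hq⟩ : ∃ q : ℕ, q = N.minFac := ⟨_, rfl⟩
    rw [← hq] at hqp hqN
    have hqnep : q ≠ p := by
      intro h
      have h1 : p ∣ N := h ▸ hqN
      exact (Nat.Prime.coprime_iff_not_dvd hp).mp hNp.symm h1
    have := Fact.mk hqp
    obtain ⟨j, m', hm', hNeq⟩ := Nat.exists_eq_pow_mul_and_not_dvd hN0 q hqp.ne_one
    have hj : j ≠ 0 := by
      rintro rfl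
      rw [pow_zero, one_mul] at hNeq
      exact hm' (hNeq ▸ hqN)
    have hm'pos : 0 < m' := by
      rcases Nat.eq_zero_or_pos m' with h0 | h0
      · rw [h0, mul_zero] at hNeq
        exact absurd hNeq hN0
      · exact h0
    have hm'lt : m' < N := by
      rw [hNeq]
      have h2 : 2 ≤ q ^ j := by
        calc 2 ≤ q := hqp.two_le
          _ = q ^ 1 := (pow_one q).symm
          _ ≤ q ^ j := Nat.pow_le_pow_right hqp.pos (by omega)
      nlinarith
    have hm'p : m'.Coprime p := Nat.Coprime.coprime_dvd_left (Dvd.intro_left _ hNeq.symm) hNp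
    have hcop : Nat.gcd (q ^ j) m' = 1 :=
      Nat.Coprime.pow_left j ((Nat.Prime.coprime_iff_not_dvd hqp).mpr hm')
    have hbez : ((q ^ j : ℕ) : ℤ) * Nat.gcdA (q ^ j) m' + (m' : ℤ) * Nat.gcdB (q ^ j) m' = 1 := by
      have h1 := Nat.gcd_eq_gcd_ab (q ^ j) m'
      rw [hcop] at h1
      rw [← h1]
      rfl
    obtain ⟨A, hA⟩ : ∃ A : ℤ, A = Nat.gcdA (q ^ j) m' := ⟨_, rfl⟩
    obtain ⟨B, hB⟩ : ∃ B : ℤ, B = Nat.gcdB (q ^ j) m' := ⟨_, rfl⟩
    rw [← hA, ← hB] at hbez
    obtain ⟨a, ha⟩ : ∃ a : G, a = x ^ ((m' : ℤ) * B) := ⟨_, rfl⟩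
    obtain ⟨b, hb⟩ : ∃ b : G, b = x ^ (((q ^ j : ℕ) : ℤ) * A) := ⟨_, rfl⟩
    have hxab : x = b * a := by
      rw [ha, hb, ← zpow_add, hbez, zpow_one]
    have haq : a ^ q ^ j = 1 := by
      rw [ha, ← zpow_natCast, ← zpow_mul]
      have h1 : (m' : ℤ) * B * ((q ^ j : ℕ) : ℤ) = (N : ℤ) * B := by
        rw [hNeq]
        push_cast
        ring
      rw [h1, zpow_mul, zpow_natCast, hxN, one_zpow]
    have hbm : b ^ m' = 1 := by
      rw [hb, ← zpow_natCast, ← zpow_mul]
      have h1 : ((q ^ j : ℕ) : ℤ) * A * (m' : ℤ) = (N : ℤ) * A := by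
        rw [hNeq]
        push_cast
        ring
      rw [h1, zpow_mul, zpow_natCast, hxN, one_zpow]
    have haK : a ∈ K := by rw [ha]; exact K.zpow_mem hxK _
    have hbK : b ∈ K := by rw [hb]; exact K.zpow_mem hxK _
    have hab' : Commute b a := by
      rw [ha, hb]
      exact (Commute.refl x).zpow_zpow _ _
    obtain ⟨QH⟩ : Nonempty (Sylow q H) := inferInstance
    have hQ0 : IsPGroup q ((QH : Subgroup H).map H.subtype) := QH.isPGroup'.map _
    have hQ0i : ¬ q ∣ ((QH : Subgroup H).map H.subtype).index := by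
      rw [Subgroup.index_map_subtype, hidx]
      refine Nat.Prime.not_dvd_mul hqp QH.not_dvd_index ?_
      intro h
      exact hqnep ((Nat.prime_dvd_prime_iff_eq hqp hp).mp (hqp.dvd_of_dvd_pow h))
    have hQH : ((hQ0.toSylow hQ0i : Sylow q G) : Subgroup G) ≤ H := by
      rw [IsPGroup.toSylow_coe]
      rintro _ ⟨c, -, rfl⟩
      exact c.2
    obtain ⟨d1, hd1K, hd1⟩ :=
      exists_conj_mem_sylow_of_le (hQ0.toSylow hQ0i) K (hQH.trans hHK) a haK j haq
    have ha'H : d1 * a * d1⁻¹ ∈ H := hQH hd1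
    have hb'K : d1 * b * d1⁻¹ ∈ K := K.mul_mem (K.mul_mem hd1K hbK) (K.inv_mem hd1K)
    have hHK1 : H ≤ K ⊓ Subgroup.centralizer ({d1 * a * d1⁻¹} : Set G) := by
      intro h hh
      refine Subgroup.mem_inf.mpr ⟨hHK hh, ?_⟩
      rw [Subgroup.mem_centralizer_singleton_iff]
      exact hab h hh _ ha'H
    have hb'K1 : d1 * b * d1⁻¹ ∈ K ⊓ Subgroup.centralizer ({d1 * a * d1⁻¹} : Set G) := by
      refine Subgroup.mem_inf.mpr ⟨hb'K, ?_⟩
      rw [Subgroup.mem_centralizer_singleton_iff]
      calc d1 * b * d1⁻¹ * (d1 * a * d1⁻¹) = d1 * (b * a) * d1⁻¹ := by group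
        _ = d1 * (a * b) * d1⁻¹ := by rw [hab'.eq]
        _ = d1 * a * d1⁻¹ * (d1 * b * d1⁻¹) := by group
    have hb'm : (d1 * b * d1⁻¹) ^ m' = 1 := by rw [conj_pow, hbm, mul_one, mul_inv_cancel]
    obtain ⟨d2, hd2K1, hd2⟩ := IH m' hm'lt _ hHK1 _ hb'K1 hb'm hm'p
    refine ⟨d2 * d1, K.mul_mem (Subgroup.mem_inf.mp hd2K1).1 hd1K, ?_⟩
    have hd2a : d2 * (d1 * a * d1⁻¹) = d1 * a * d1⁻¹ * d2 := by
      have h1 := (Subgroup.mem_inf.mp hd2K1).2
      rwa [Subgroup.mem_centralizer_singleton_iff] at h1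
    have hfin : d2 * d1 * x * (d2 * d1)⁻¹ = d2 * (d1 * b * d1⁻¹) * d2⁻¹ * (d1 * a * d1⁻¹) := by
      calc d2 * d1 * x * (d2 * d1)⁻¹
          = d2 * (d1 * b * d1⁻¹) * (d2⁻¹ * (d2 * (d1 * a * d1⁻¹))) * d2⁻¹ := by
            rw [hxab]; group
        _ = d2 * (d1 * b * d1⁻¹) * (d2⁻¹ * (d1 * a * d1⁻¹ * d2)) * d2⁻¹ := by rw [hd2a]
        _ = d2 * (d1 * b * d1⁻¹) * d2⁻¹ * (d1 * a * d1⁻¹) := by group
    rw [hfin]
    exact H.mul_mem hd2 ha'H

end Cfsg.Agent.Lib.Helper67.PReg
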