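import Mathlib

set_option autoImplicit false

namespace Cfsg.Agent.Lib.Helper67

/-- In a finite group, `g` normalizes `⟨x⟩` as soon as it conjugates `x` into `⟨x⟩`. -/
theorem mem_normalizer_zpowers_iff {G : Type*} [Group G] [Finite G] (x g : G) :
    g ∈ Subgroup.normalizer ((Subgroup.zpowers x : Subgroup G) : Set G) ↔
      g * x * g⁻¹ ∈ Subgroup.zpowers x := by
  constructor
  · intro hg
    exact (Subgroup.mem_normalizer_iff.mp hg x).mp (Subgroup.mem_zpowers x)
  · intro hg
    rw [Subgroup.mem_normalizer_iff_map_conj_eq]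
    apply Subgroup.eq_of_le_of_card_ge
    · rw [Subgroup.map_le_iff_le_comap, Subgroup.zpowers_le]
      simpa using hg
    · apply le_of_eq
      exact (Subgroup.card_map_of_injective (MulAut.conj g).injective).symm

/-- iterated conjugation -/
theorem conj_pow_eq {G : Type*} [Group G] (x h : G) (i : ℕ) (hi : h * x * h⁻¹ = x ^ i) (j : ℕ) :
    h ^ j * x * (h ^ j)⁻¹ = x ^ (i ^ j) := by
  induction j with
  | zero => simp
  | succ j ih =>
    calc h ^ (j + 1) * x * (h ^ (j + 1))⁻¹ = h * (h ^ j * x * (h ^ j)⁻¹) * h⁻¹ := by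
          rw [pow_succ']; group
      _ = h * x ^ (i ^ j) * h⁻¹ := by rw [ih]
      _ = (h * x * h⁻¹) ^ (i ^ j) := conj_pow.symm
      _ = x ^ (i ^ (j + 1)) := by rw [hi, ← pow_mul, pow_succ']

/-- If `h` normalizes `⟨x⟩` and the order of `h` is prime to `φ(|x|)`, then `h` centralizes `x`. -/
theorem conj_eq_self_of_coprime_totient {G : Type*} [Group G] [Finite G] (x h : G)
    (hh : h * x * h⁻¹ ∈ Subgroup.zpowers x)
    (hcop : (orderOf h).Coprime (orderOf x).totient) : h * x * h⁻¹ = x := by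
  obtain ⟨i, hi⟩ := mem_powers_iff_mem_zpowers.mpr hh
  have hi : h * x * h⁻¹ = x ^ i := hi.symm
  have hm0 : orderOf h ≠ 0 := (orderOf_pos h).ne'
  have hn0 : orderOf x ≠ 0 := (orderOf_pos x).ne'
  have : NeZero (orderOf x) := ⟨hn0⟩
  have h1 := conj_pow_eq x h i hi (orderOf h)
  rw [pow_orderOf_eq_one, one_mul, inv_one, mul_one] at h1
  have h2 : x ^ (i ^ orderOf h) = x ^ 1 := by rw [← h1, pow_one]
  rw [pow_eq_pow_iff_modEq] at h2
  have h3 : ((i : ZMod (orderOf x)) ^ orderOf h) = 1 := by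
    have := (ZMod.natCast_eq_natCast_iff _ _ _).mpr h2
    simpa using this
  set U := Units.ofPowEqOne (i : ZMod (orderOf x)) (orderOf h) h3 hm0 with hU
  have hU1 : U ^ orderOf h = 1 := Units.pow_ofPowEqOne h3 hm0
  have hd1 : orderOf U ∣ orderOf h := orderOf_dvd_of_pow_eq_one hU1
  have hd2 : orderOf U ∣ (orderOf x).totient := by
    have := orderOf_dvd_natCard U
    rwa [Nat.card_eq_fintype_card, ZMod.card_units_eq_totient] at this
  have hU' : U = 1 := orderOf_eq_one_iff.mp (Nat.eq_one_of_dvd_coprimes hcop hd1 hd2)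
  have h4 : (i : ZMod (orderOf x)) = 1 := by
    have := congrArg Units.val hU'
    simpa [hU] using this
  have h5 : i ≡ 1 [MOD orderOf x] := by
    rw [← ZMod.natCast_eq_natCast_iff]
    simpa using h4
  rw [hi]
  have := pow_eq_pow_iff_modEq.mpr h5
  rwa [pow_one] at this

/-- An element of odd order normalizing a cyclic `2`-group `⟨x⟩` centralizes `x`. -/
theorem conj_eq_self_of_odd_of_two_pow {G : Type*} [Group G] [Finite G] (x h : G) (a : ℕ)
    (hx : orderOf x = 2 ^ a) (hodd : Odd (orderOf h))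
    (hh : h * x * h⁻¹ ∈ Subgroup.zpowers x) : h * x * h⁻¹ = x := by
  apply conj_eq_self_of_coprime_totient x h hh
  rw [hx]
  rcases Nat.eq_zero_or_pos a with h0 | hpos
  · subst h0; simp
  · rw [Nat.totient_prime_pow Nat.prime_two hpos]
    simp only [Nat.add_one_sub_one, mul_one]
    exact Nat.Coprime.pow_right _ hodd.coprime_two_right

/-- If two coprime powers of `g` lie in a subgroup, so does `g`. -/
theorem mem_of_pow_mem_of_coprime {G : Type*} [Group G] (H : Subgroup G) (g : G) (m n : ℕ)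
    (hcop : Nat.Coprime m n) (hm : g ^ m ∈ H) (hn : g ^ n ∈ H) : g ∈ H := by
  have h1 : (1 : ℤ) = (m : ℤ) * Nat.gcdA m n + (n : ℤ) * Nat.gcdB m n := by
    have := Nat.gcd_eq_gcd_ab m n
    rw [hcop.gcd_eq_one] at this
    simpa using this
  have h2 : g = (g ^ m) ^ (Nat.gcdA m n) * (g ^ n) ^ (Nat.gcdB m n) := by
    rw [← zpow_natCast, ← zpow_natCast, ← zpow_mul, ← zpow_mul, ← zpow_add, ← h1, zpow_one]
  rw [h2]
  exact H.mul_mem (H.zpow_mem hm _) (H.zpow_mem hn _)

/-- An element all of whose prime divisors of the order equal `p` has `p`-power order. -/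
theorem orderOf_eq_prime_pow_of_forall_prime {G : Type*} [Group G] [Finite G] (x : G) (p : ℕ)
    (hx : ∀ r : ℕ, r.Prime → r ∣ orderOf x → r = p) : ∃ a : ℕ, orderOf x = p ^ a :=
  ⟨_, Nat.eq_prime_pow_of_unique_prime_dvd (orderOf_pos x).ne' (fun hd hdx => hx _ hd hdx)⟩

end Cfsg.Agent.Lib.Helper67
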