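import Mathlib
import Cfsg.Agent.Lib.Helper65.Cover2
import Cfsg.Agent.Lib.Helper54.Stability
import Cfsg.Agent.Lib.Helper1.Tools

set_option autoImplicit false

namespace Cfsg.Agent.Lib.Helper67.Cyc

variable {G : Type*} [Group G]

/-- every subgroup of order prime to `p` is abelian -/
def PAb (p : ℕ) (G : Type*) [Group G] : Prop :=
  ∀ H : Subgroup G, ¬ p ∣ Nat.card H → IsMulCommutative H

/-- To show that `g` lies in a subgroup it suffices to treat its `p`-part and `p'`-part. -/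
theorem parts_induction [Finite G] (p : ℕ) [Fact p.Prime] (g : G) (S : Subgroup G)
    (h1 : ∀ a ∈ Subgroup.zpowers g, (∃ k : ℕ, a ^ p ^ k = 1) → a ∈ S)
    (h2 : ∀ b ∈ Subgroup.zpowers g, (orderOf b).Coprime p → b ∈ S) : g ∈ S := by
  obtain ⟨j, m', u, v, hcop, ho1, ho2, hg⟩ :=
    Cfsg.Agent.Lib.Helper65.exists_pPart_decomp g (orderOf_pos g).ne' p Fact.out
  rw [hg]
  apply S.mul_mem
  · apply S.zpow_mem
    apply h2
    · exact Subgroup.pow_mem _ (Subgroup.mem_zpowers g) _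
    · rw [ho2]; exact hcop.symm
  · apply S.zpow_mem
    apply h1
    · exact Subgroup.pow_mem _ (Subgroup.mem_zpowers g) _
    · exact ⟨j, by rw [← ho1]; exact pow_orderOf_eq_one _⟩

/-- A `p`-element normalizing a Sylow `p`-subgroup lies in it. -/
theorem mem_sylow_of_normalizer [Finite G] {p : ℕ} [Fact p.Prime] (P : Sylow p G) (x : G)
    (hx : x ∈ Subgroup.normalizer ((P : Subgroup G) : Set G)) (k : ℕ) (hxk : x ^ p ^ k = 1) :
    x ∈ (P : Subgroup G) := by
  have hZ : IsPGroup p (Subgroup.zpowers x) := by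
    obtain ⟨j, -, hj⟩ := (Nat.dvd_prime_pow Fact.out).mp (orderOf_dvd_of_pow_eq_one hxk)
    exact IsPGroup.of_card (n := j) (by rw [Nat.card_zpowers, hj])
  have h := hZ.inf_normalizer_sylow P
  have h2 : x ∈ Subgroup.zpowers x ⊓ Subgroup.normalizer ((P : Subgroup G) : Set G) :=
    ⟨Subgroup.mem_zpowers x, hx⟩
  exact (h.le h2).2

/-- elements of a cyclic subgroup commute -/
theorem comm_of_cyclic (P : Subgroup G) (hcyc : IsCyclic P) {a b : G} (ha : a ∈ P) (hb : b ∈ P) :
    a * b = b * a := by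
  have h := (IsCyclic.isMulCommutative (α := P)).is_comm.comm ⟨a, ha⟩ ⟨b, hb⟩
  exact congrArg Subtype.val h

/-- In a cyclic `p`-group, the elements of order dividing `p` lie in every nontrivial subgroup. -/
theorem mem_zpowers_of_pow_prime_eq_one [Finite G] {p : ℕ} [Fact p.Prime] (P : Subgroup G)
    (hP : IsPGroup p P) (hcyc : IsCyclic P) {y c : G} (hy : y ∈ P) (hy1 : y ≠ 1) (hc : c ∈ P)
    (hcp : c ^ p = 1) : c ∈ Subgroup.zpowers y := by
  classical
  have hp : p.Prime := Fact.out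
  have := Fintype.ofFinite P
  obtain ⟨k, hk⟩ := hP ⟨y, hy⟩
  have hk' : y ^ p ^ k = 1 := by
    have := congrArg Subtype.val hk
    simpa using this
  obtain ⟨j, -, hj⟩ := (Nat.dvd_prime_pow hp).mp (orderOf_dvd_of_pow_eq_one hk')
  have hj0 : j ≠ 0 := by
    rintro rfl
    rw [pow_zero, orderOf_eq_one_iff] at hj
    exact hy1 hj
  set y' : G := y ^ p ^ (j - 1) with hy'
  have hoy' : orderOf y' = p := by
    rw [hy', orderOf_pow_of_dvd (pow_ne_zero _ hp.ne_zero) (by rw [hj]; exact pow_dvd_pow p (by omega)), hj]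
    have : p ^ j = p ^ (j - 1) * p := by rw [← pow_succ]; congr 1; omega
    rw [this, Nat.mul_div_cancel_left _ (pow_pos hp.pos _)]
  have hy'P : y' ∈ P := Subgroup.pow_mem _ hy _
  let Y' : P := ⟨y', hy'P⟩
  have hoY' : orderOf Y' = p := by
    rw [← hoy']; exact Subgroup.orderOf_mk _ _
  let S : Finset P := Finset.univ.filter (fun a => a ^ p = 1)
  have hS : S.card ≤ p := IsCyclic.card_pow_eq_one_le (α := P) hp.pos
  let T : Finset P := (Finset.range p).image (fun i => Y' ^ i)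
  have hT : T.card = p := by
    rw [Finset.card_image_of_injOn, Finset.card_range]
    intro a ha b hb hab
    have ha' : a < orderOf Y' := by rw [hoY']; exact Finset.mem_range.mp ha
    have hb' : b < orderOf Y' := by rw [hoY']; exact Finset.mem_range.mp hb
    exact pow_injOn_Iio_orderOf ha' hb' hab
  have hTS : T ⊆ S := by
    intro a ha
    obtain ⟨i, -, rfl⟩ := Finset.mem_image.mp ha
    rw [Finset.mem_filter]
    refine ⟨Finset.mem_univ _, ?_⟩
    rw [← pow_mul, mul_comm, pow_mul, ← hoY', pow_orderOf_eq_one, one_pow]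
  have hTS' : T = S := Finset.eq_of_subset_of_card_le hTS (by rw [hT]; exact hS)
  have hcS : (⟨c, hc⟩ : P) ∈ S := by
    rw [Finset.mem_filter]
    exact ⟨Finset.mem_univ _, Subtype.ext (by simpa using hcp)⟩
  rw [← hTS'] at hcS
  obtain ⟨i, -, hi⟩ := Finset.mem_image.mp hcS
  have hi' : y' ^ i = c := by
    have := congrArg Subtype.val hi
    simpa [Y'] using this
  rw [← hi', hy', ← pow_mul]
  exact Subgroup.pow_mem _ (Subgroup.mem_zpowers y) _

/-- A `p'`-element normalizing a cyclic `p`-group and centralizing a nontrivial element of it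
centralizes the whole group. -/
theorem commute_of_commute_ne_one [Finite G] {p : ℕ} [Fact p.Prime] (P : Subgroup G)
    (hP : IsPGroup p P) (hcyc : IsCyclic P) (u : G) (hu : ∀ z ∈ P, u * z * u⁻¹ ∈ P)
    (hup : (orderOf u).Coprime p) (y : G) (hy : y ∈ P) (hy1 : y ≠ 1) (huy : u * y = y * u) :
    ∀ z ∈ P, u * z = z * u := by
  classical
  by_contra hcon
  obtain ⟨w, hw⟩ := not_forall.mp hcon
  obtain ⟨hwP, hw2⟩ := Classical.not_imp.mp hw
  obtain ⟨k, hk⟩ := hP ⟨w, hwP⟩
  have hk' : w ^ p ^ k = 1 := by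
    have := congrArg Subtype.val hk
    simpa using this
  have hex : ∃ i : ℕ, u * w ^ p ^ i = w ^ p ^ i * u := ⟨k, by rw [hk', mul_one, one_mul]⟩
  set i := Nat.find hex with hi
  have hi_spec : u * w ^ p ^ i = w ^ p ^ i * u := Nat.find_spec hex
  have hi0 : i ≠ 0 := by
    intro h0
    rw [h0, pow_zero, pow_one] at hi_spec
    exact hw2 hi_spec
  have hmin : ¬ (u * w ^ p ^ (i - 1) = w ^ p ^ (i - 1) * u) := Nat.find_min hex (by omega)
  set z : G := w ^ p ^ (i - 1) with hz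
  have hzP : z ∈ P := Subgroup.pow_mem _ hwP _
  have hzp : z ^ p = w ^ p ^ i := by
    rw [hz, ← pow_mul, ← pow_succ]
    congr 2; omega
  have hzp_comm : u * z ^ p * u⁻¹ = z ^ p := by
    rw [hzp, hi_spec, mul_inv_cancel_right]
  set c : G := z⁻¹ * (u * z * u⁻¹) with hc
  have hcP : c ∈ P := Subgroup.mul_mem _ (Subgroup.inv_mem _ hzP) (hu z hzP)
  have hcomm : Commute z⁻¹ (u * z * u⁻¹) :=
    comm_of_cyclic P hcyc (Subgroup.inv_mem _ hzP) (hu z hzP)
  have hcp : c ^ p = 1 := by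
    rw [hc, hcomm.mul_pow, conj_pow, hzp_comm, inv_pow, inv_mul_cancel]
  have hcz : c ∈ Subgroup.zpowers y := mem_zpowers_of_pow_prime_eq_one P hP hcyc hy hy1 hcP hcp
  have hcu : u * c = c * u := by
    obtain ⟨n, hn⟩ := Subgroup.mem_zpowers_iff.mp hcz
    rw [← hn]
    exact ((show Commute u y from huy).zpow_right n).eq
  have h1 : u * z * u⁻¹ = z * c := by rw [hc, mul_inv_cancel_left]
  have hc1 : c = 1 := Cfsg.Agent.Lib.Helper54.eq_one_of_conj_eq_mul h1 hcu hcp hup
  rw [hc1, mul_one] at h1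
  exact hmin (mul_inv_eq_iff_eq_mul.mp h1)

/-- If `u` normalizes `P` without nontrivial fixed points, then `P` lies in every subgroup
containing `u` that `P` normalizes. -/
theorem le_of_fpf [Finite G] (P L : Subgroup G) (u : G) (hu : ∀ z ∈ P, u * z * u⁻¹ ∈ P)
    (hfix : ∀ z ∈ P, u * z = z * u → z = 1) (huL : u ∈ L) (hPL : ∀ z ∈ P, z * u⁻¹ * z⁻¹ ∈ L) :
    P ≤ L := by
  let f : P → P := fun z => ⟨u * z.1 * u⁻¹ * z.1⁻¹, Subgroup.mul_mem _ (hu z.1 z.2) (Subgroup.inv_mem _ z.2)⟩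
  have hinj : Function.Injective f := by
    intro z z' h
    have h1 : u * z.1 * u⁻¹ * z.1⁻¹ = u * z'.1 * u⁻¹ * z'.1⁻¹ := congrArg Subtype.val h
    have h2 : u * (z'.1⁻¹ * z.1) = (z'.1⁻¹ * z.1) * u := by
      have h3 : z.1 * u⁻¹ * z.1⁻¹ = z'.1 * u⁻¹ * z'.1⁻¹ := by
        have := congrArg (fun t => u⁻¹ * t) h1
        simpa [mul_assoc] using this
      have h4 : z'.1⁻¹ * z.1 * u⁻¹ = u⁻¹ * (z'.1⁻¹ * z.1) := by
        have := congrArg (fun t => z'.1⁻¹ * t * z.1) h3
        simpa [mul_assoc] using this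
      have h5 := congrArg (fun t => u * t * u) h4
      simp only [mul_assoc, inv_mul_cancel, mul_one, mul_inv_cancel_left] at h5
      rw [mul_assoc]
      exact h5
    have h6 := hfix _ (Subgroup.mul_mem _ (Subgroup.inv_mem _ z'.2) z.2) h2
    exact Subtype.ext (inv_mul_eq_one.mp h6).symm
  have hsurj : Function.Surjective f := Finite.injective_iff_surjective.mp hinj
  intro y hy
  obtain ⟨z, hz⟩ := hsurj ⟨y, hy⟩
  have hz' : u * z.1 * u⁻¹ * z.1⁻¹ = y := congrArg Subtype.val hz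
  rw [← hz']
  have : u * z.1 * u⁻¹ * z.1⁻¹ = u * (z.1 * u⁻¹ * z.1⁻¹) := by simp [mul_assoc]
  rw [this]
  exact Subgroup.mul_mem _ huL (hPL z.1 z.2)

end Cfsg.Agent.Lib.Helper67.Cyc
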