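import Mathlib

set_option autoImplicit false

namespace Cfsg.Agent.Lib.Helper67

/-- A `p`-group `S` normalizing a nontrivial `p`-group `C` centralizes a nontrivial element
of `C`. -/
theorem exists_fixed_of_pgroup_normalizes {G : Type*} [Group G] [Finite G] {p : ℕ} [Fact p.Prime]
    (S C : Subgroup G) (hS : IsPGroup p S) (hC : IsPGroup p C)
    (hSC : S ≤ Subgroup.normalizer (C : Set G)) (hne : C ≠ ⊥) :
    ∃ n ∈ C, n ≠ 1 ∧ ∀ s ∈ S, s * n * s⁻¹ = n := by
  let act : MulAction S C :=
    { smul := fun s c => ⟨(s : G) * c * (s : G)⁻¹, (Subgroup.mem_normalizer_iff.mp (hSC s.2) c).mp c.2⟩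
      one_smul := by
        intro c
        apply Subtype.ext
        show ((1 : S) : G) * c * ((1 : S) : G)⁻¹ = c
        simp
      mul_smul := by
        intro s t c
        apply Subtype.ext
        show ((s * t : S) : G) * c * ((s * t : S) : G)⁻¹ = (s : G) * ((t : G) * c * (t : G)⁻¹) * (s : G)⁻¹
        simp [mul_assoc] }
  have hsmul : ∀ (s : S) (c : C), ((s • c : C) : G) = (s : G) * c * (s : G)⁻¹ := fun s c => rfl
  have hdvd : p ∣ Nat.card C := by
    rcases hC.card_eq_or_dvd with h | h
    · exact absurd (Subgroup.card_eq_one.mp h) hne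
    · exact h
  have h1 : (1 : C) ∈ MulAction.fixedPoints S C := by
    intro s
    apply Subtype.ext
    rw [hsmul]
    simp
  obtain ⟨b, hb, hb1⟩ := hS.exists_fixed_point_of_prime_dvd_card_of_fixed_point C hdvd h1
  refine ⟨b, b.2, ?_, ?_⟩
  · intro h
    exact hb1 (Subtype.ext h.symm)
  · intro s hs
    have := hb ⟨s, hs⟩
    have := congrArg Subtype.val this
    rwa [hsmul] at this

/-- An element of order prime to `p` lies in a normal `p`-complement. -/
theorem mem_normal_complement_of_not_dvd {B : Type*} [Group B] [Finite B] {p : ℕ} [Fact p.Prime]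
    (K : Subgroup B) [K.Normal] (S : Sylow p B) (hKS : K.IsComplement' (S : Subgroup B))
    (a : B) (ha : ¬ p ∣ orderOf a) : a ∈ K := by
  have hp : p.Prime := Fact.out
  obtain ⟨s, hs⟩ := S.isPGroup'.exists_card_eq
  have hidx : K.index = p ^ s := by
    have h1 := hKS.card_mul_card
    have h2 := K.card_mul_index
    have hpos : 0 < Nat.card K := Nat.card_pos
    rw [← hs]
    exact Nat.eq_of_mul_eq_mul_left hpos (h2.trans h1.symm)
  have h3 : a ^ (p ^ s) ∈ K := by
    rw [← QuotientGroup.eq_one_iff, QuotientGroup.mk_pow, ← hidx, Subgroup.index_eq_card]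
    exact pow_card_eq_one'
  have hcop : Nat.Coprime (orderOf a) (p ^ s) :=
    Nat.Coprime.pow_right _ ((Nat.Prime.coprime_iff_not_dvd hp).mpr ha).symm
  have h1 : (1 : ℤ) = (orderOf a : ℤ) * Nat.gcdA (orderOf a) (p ^ s)
      + ((p ^ s : ℕ) : ℤ) * Nat.gcdB (orderOf a) (p ^ s) := by
    have := Nat.gcd_eq_gcd_ab (orderOf a) (p ^ s)
    rw [hcop.gcd_eq_one] at this
    simpa using this
  have h2 : a = (a ^ orderOf a) ^ (Nat.gcdA (orderOf a) (p ^ s))
      * (a ^ (p ^ s)) ^ (Nat.gcdB (orderOf a) (p ^ s)) := by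
    rw [← zpow_natCast, ← zpow_natCast, ← zpow_mul, ← zpow_mul, ← zpow_add, ← h1, zpow_one]
  rw [h2, pow_orderOf_eq_one, one_zpow, one_mul]
  exact K.zpow_mem h3 _

/-- The order of a normal `p`-complement is prime to `p`. -/
theorem not_dvd_card_normal_complement {B : Type*} [Group B] [Finite B] {p : ℕ} [Fact p.Prime]
    (K : Subgroup B) (S : Sylow p B) (hKS : K.IsComplement' (S : Subgroup B)) :
    ¬ p ∣ Nat.card K := by
  have h1 := hKS.card_mul_card
  have h2 := (S : Subgroup B).card_mul_index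
  have hpos : 0 < Nat.card (S : Subgroup B) := Nat.card_pos
  have : Nat.card K = (S : Subgroup B).index := by
    rw [mul_comm] at h1
    exact Nat.eq_of_mul_eq_mul_left hpos (h1.trans h2.symm)
  rw [this]
  exact S.not_dvd_index

end Cfsg.Agent.Lib.Helper67
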