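import Mathlib
import Cfsg.Agent.Lib.Helper67.CycA
import Cfsg.Agent.Lib.Helper67.PGroupAct
import Cfsg.Agent.Lib.Helper2.PComplement

set_option autoImplicit false

namespace Cfsg.Agent.Lib.Helper67.Cyc

variable {G : Type*} [Group G]

/-- In a finite group, `g` normalizes `P` as soon as it conjugates `P` into itself. -/
theorem mem_normalizer_of_forall_conj_mem [Finite G] (P : Subgroup G) (g : G)
    (h : ∀ z ∈ P, g * z * g⁻¹ ∈ P) : g ∈ Subgroup.normalizer (P : Set G) := by
  rw [Subgroup.mem_normalizer_iff_map_conj_eq]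
  apply Subgroup.eq_of_le_of_card_ge
  · rintro _ ⟨z, hz, rfl⟩
    exact h z hz
  · apply le_of_eq
    exact (Subgroup.card_map_of_injective (MulAut.conj g).injective).symm

theorem conj_mem_of_mem_normalizer (P : Subgroup G) {g : G}
    (hg : g ∈ Subgroup.normalizer (P : Set G)) {z : G} (hz : z ∈ P) : g * z * g⁻¹ ∈ P :=
  (Subgroup.mem_normalizer_iff.mp hg z).mp hz

/-- A `p'`-element normalizing a `p'`-subgroup centralizes it (when `p'`-subgroups are abelian). -/
theorem commute_of_normalizes [Finite G] {p : ℕ} [Fact p.Prime] (hab : PAb p G) (B : Subgroup G)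
    (hB : ¬ p ∣ Nat.card B) (g : G) (hg : (orderOf g).Coprime p)
    (hgB : g ∈ Subgroup.normalizer (B : Set G)) : ∀ b ∈ B, g * b = b * g := by
  have hp : p.Prime := Fact.out
  set X := Subgroup.normalizer (B : Set G) with hX
  have hn : (B.subgroupOf X).Normal := Subgroup.normal_in_normalizer
  let gX : X := ⟨g, hgB⟩
  have h1 := Cfsg.Agent.Lib.Helper1.card_sup_mul_card_inf (B.subgroupOf X) (Subgroup.zpowers gX)
  have hcB : Nat.card (B.subgroupOf X) = Nat.card B :=
    Cfsg.Agent.Lib.Helper1.card_subgroupOf_of_le Subgroup.le_normalizer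
  have hcZ : Nat.card (Subgroup.zpowers gX) = orderOf g := by
    rw [Nat.card_zpowers]; exact Subgroup.orderOf_mk _ _
  let H : Subgroup G := (B.subgroupOf X ⊔ Subgroup.zpowers gX).map X.subtype
  have hcH : Nat.card H = Nat.card (B.subgroupOf X ⊔ Subgroup.zpowers gX : Subgroup X) :=
    Subgroup.card_subtype _ _
  have hH : ¬ p ∣ Nat.card H := by
    intro hdvd
    rw [hcH] at hdvd
    have h2 : p ∣ Nat.card B * orderOf g := by
      rw [← hcB, ← hcZ, ← h1]; exact Dvd.dvd.mul_right hdvd _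
    rcases hp.dvd_mul.mp h2 with h | h
    · exact hB h
    · exact (Nat.Prime.coprime_iff_not_dvd hp).mp hg.symm h
  have hc := hab H hH
  intro b hb
  have hbH : b ∈ H :=
    ⟨⟨b, Subgroup.le_normalizer hb⟩, Subgroup.mem_sup_left (Subgroup.mem_subgroupOf.mpr hb), rfl⟩
  have hgH : g ∈ H := ⟨gX, Subgroup.mem_sup_right (Subgroup.mem_zpowers gX), rfl⟩
  have := hc.is_comm.comm ⟨g, hgH⟩ ⟨b, hbH⟩
  exact congrArg Subtype.val this

/-- internal description of a normal `p`-complement of a subgroup `X` containing a Sylow `p`-subgroup -/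
theorem exists_internal_complement [Finite G] {p : ℕ} [Fact p.Prime] (P : Sylow p G)
    (X : Subgroup G) (hPX : (P : Subgroup G) ≤ X) (h : Cfsg.HasNormalPComplement p X) :
    ∃ B : Subgroup G, B ≤ X ∧ (∀ g ∈ X, ∀ b ∈ B, g * b * g⁻¹ ∈ B) ∧ ¬ p ∣ Nat.card B ∧
      (∀ m ∈ X, (orderOf m).Coprime p → m ∈ B) ∧ X ≤ B ⊔ (P : Subgroup G) ∧
      Nat.card B * Nat.card (P : Subgroup G) = Nat.card X := by
  have hp : p.Prime := Fact.out
  obtain ⟨N', hN', hc⟩ := (Cfsg.Agent.Lib.Helper2.hasNormalPComplement_iff (P.subtype hPX)).mp h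
  refine ⟨N'.map X.subtype, ?_, ?_, ?_, ?_, ?_, ?_⟩
  · rintro _ ⟨b, -, rfl⟩
    exact b.2
  · rintro g hg _ ⟨b, hb, rfl⟩
    exact ⟨⟨g, hg⟩ * b * ⟨g, hg⟩⁻¹, hN'.conj_mem b hb ⟨g, hg⟩, rfl⟩
  · rw [Subgroup.card_subtype]
    exact Cfsg.Agent.Lib.Helper2.not_dvd_card_of_isComplement' (P.subtype hPX) N' hc
  · intro m hm hcop
    have h1 : (⟨m, hm⟩ : X) ∈ N' :=
      Cfsg.Agent.Lib.Helper67.mem_normal_complement_of_not_dvd N' (P.subtype hPX) hc ⟨m, hm⟩
        (by rw [Subgroup.orderOf_mk]; exact (Nat.Prime.coprime_iff_not_dvd hp).mp hcop.symm)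
    exact ⟨⟨m, hm⟩, h1, rfl⟩
  · intro g hg
    have h1 : (⟨g, hg⟩ : X) ∈ N' ⊔ ((P.subtype hPX : Sylow p X) : Subgroup X) := by
      rw [hc.sup_eq_top]; trivial
    have h2 : g ∈ (N' ⊔ ((P.subtype hPX : Sylow p X) : Subgroup X)).map X.subtype :=
      ⟨⟨g, hg⟩, h1, rfl⟩
    rw [Subgroup.map_sup, Sylow.coe_subtype, Subgroup.subgroupOf_map_subtype,
      inf_of_le_left hPX] at h2
    exact h2
  · have h1 := hc.card_mul_card
    rw [Subgroup.card_subtype, ← h1, Sylow.coe_subtype,
      Cfsg.Agent.Lib.Helper1.card_subgroupOf_of_le hPX]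

/-- Burnside's normal `p`-complement theorem inside a subgroup `X` containing the Sylow subgroup. -/
theorem hasNormalPComplement_subgroup [Finite G] {p : ℕ} [Fact p.Prime] (P : Sylow p G)
    (X : Subgroup G) (hPX : (P : Subgroup G) ≤ X)
    (h : ∀ g ∈ X, g ∈ Subgroup.normalizer ((P : Subgroup G) : Set G) →
      ∀ z ∈ (P : Subgroup G), g * z = z * g) : Cfsg.HasNormalPComplement p X := by
  apply Cfsg.Agent.Lib.Helper2.hasNormalPComplement_of_normalizer_le_centralizer (P.subtype hPX)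
  intro g hg
  have hg1 : (g : G) ∈ Subgroup.normalizer ((P : Subgroup G) : Set G) := by
    apply mem_normalizer_of_forall_conj_mem
    intro z hz
    have h1 := (Subgroup.mem_normalizer_iff.mp hg ⟨z, hPX hz⟩).mp
      (by rw [Sylow.coe_subtype]; exact Subgroup.mem_subgroupOf.mpr hz)
    rw [Sylow.coe_subtype] at h1
    exact Subgroup.mem_subgroupOf.mp h1
  rw [Subgroup.mem_centralizer_iff]
  intro z hz
  have hz' : (z : G) ∈ (P : Subgroup G) := by
    have hz2 : z ∈ ((P.subtype hPX : Sylow p X) : Subgroup X) := hz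
    rw [Sylow.coe_subtype] at hz2
    exact Subgroup.mem_subgroupOf.mp hz2
  exact Subtype.ext (h g g.2 hg1 z hz').symm

/-- A `p`-element acting by conjugation on a finite subgroup without nontrivial fixed points. -/
theorem card_modEq_one_of_fpf [Finite G] {p : ℕ} [Fact p.Prime] (H : Subgroup G) (x : G)
    (hx : ∀ w ∈ H, x * w * x⁻¹ ∈ H) (k : ℕ) (hxk : x ^ p ^ k = 1)
    (hfix : ∀ w ∈ H, x * w = w * x → w = 1) : Nat.card H ≡ 1 [MOD p] := by
  classical
  have := Fintype.ofFinite H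
  let f : Function.End H := fun w => ⟨x * w.1 * x⁻¹, hx w.1 w.2⟩
  have hpow : ∀ n : ℕ, ∀ w : H, (((f ^ n) w : H) : G) = x ^ n * w.1 * (x ^ n)⁻¹ := by
    intro n
    induction n with
    | zero =>
      intro w
      rw [pow_zero, pow_zero]
      show (w : G) = 1 * (w : G) * 1⁻¹
      simp
    | succ n ih =>
      intro w
      rw [pow_succ']
      show x * ((f ^ n) w : G) * x⁻¹ = _
      rw [ih w, pow_succ']
      group
  have hf : f ^ p ^ k = 1 := by
    funext w
    apply Subtype.ext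
    show (((f ^ p ^ k) w : H) : G) = (w : G)
    rw [hpow, hxk]
    simp
  have h1 := Equiv.Perm.card_fixedPoints_modEq (f := f) (p := p) (n := k) hf
  have h2 : Fintype.card (Function.fixedPoints f) = 1 := by
    rw [Fintype.card_eq_one_iff]
    refine ⟨⟨1, ?_⟩, ?_⟩
    · show f 1 = 1
      apply Subtype.ext
      show x * (1 : G) * x⁻¹ = 1
      simp
    · rintro ⟨w, hw⟩
      apply Subtype.ext
      apply Subtype.ext
      have hw' : x * w.1 * x⁻¹ = w.1 := congrArg Subtype.val hw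
      exact hfix w.1 w.2 (mul_inv_eq_iff_eq_mul.mp hw')
  rw [h2] at h1
  rw [Nat.card_eq_fintype_card]
  exact h1

/-- If all Sylow subgroups for primes other than `p` have order `≡ 1 mod p`, so has the index of a
Sylow `p`-subgroup. -/
theorem index_modEq_one [Finite G] {p : ℕ} [Fact p.Prime] (P : Sylow p G)
    (h : ∀ r : ℕ, r.Prime → r ≠ p → r ^ (Nat.card G).factorization r ≡ 1 [MOD p]) :
    (P : Subgroup G).index ≡ 1 [MOD p] := by
  have hp : p.Prime := Fact.out
  have hn : Nat.card G ≠ 0 := Nat.card_pos.ne'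
  have hidx : (P : Subgroup G).index = Nat.card G / p ^ (Nat.card G).factorization p := by
    have h1 := (P : Subgroup G).index_mul_card
    rw [P.card_eq_multiplicity] at h1
    exact (Nat.div_eq_of_eq_mul_left (pow_pos hp.pos _) h1.symm).symm
  rw [hidx]
  have hfac := Nat.factorization_ordCompl (Nat.card G) p
  have hne : Nat.card G / p ^ (Nat.card G).factorization p ≠ 0 := (Nat.ordCompl_pos p hn).ne'
  rw [← Nat.prod_factorization_pow_eq_self hne, hfac, Finsupp.prod]
  apply Finset.prod_induction _ (fun x => x ≡ 1 [MOD p])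
  · intro a b ha hb
    simpa using ha.mul hb
  · rfl
  · intro q hq
    rw [Finsupp.support_erase, Finset.mem_erase] at hq
    rw [Finsupp.erase_ne hq.1]
    exact h q (Nat.prime_of_mem_primeFactors (by simpa using hq.2)) hq.1

theorem isCyclic_of_le {H K : Subgroup G} (hHK : H ≤ K) (hK : IsCyclic K) : IsCyclic H :=
  isCyclic_of_injective (Subgroup.inclusion hHK) (Subgroup.inclusion_injective hHK)

theorem isCyclic_sylow_subgroup [Finite G] {p : ℕ} [Fact p.Prime]
    (hcyc : ∀ P : Sylow p G, IsCyclic (P : Subgroup G)) (X : Subgroup G) (Q : Sylow p X) :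
    IsCyclic (Q : Subgroup X) := by
  have h1 : IsPGroup p ((Q : Subgroup X).map X.subtype) := Q.isPGroup'.map X.subtype
  obtain ⟨P', hP'⟩ := h1.exists_le_sylow
  have := hcyc P'
  let φ : (Q : Subgroup X) →* (P' : Subgroup G) :=
    { toFun := fun z => ⟨z.1.1, hP' ⟨z.1, z.2, rfl⟩⟩
      map_one' := rfl
      map_mul' := fun a b => rfl }
  apply isCyclic_of_injective φ
  intro a b hab
  have h2 : a.1.1 = b.1.1 := congrArg (fun t : (P' : Subgroup G) => (t : G)) hab
  exact Subtype.ext (Subtype.ext h2)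

theorem PAb.subgroup {p : ℕ} (hab : PAb p G) (X : Subgroup G) : PAb p X := by
  intro L hL
  have h := hab (L.map X.subtype) (by rwa [Subgroup.card_subtype])
  refine ⟨⟨fun a b => ?_⟩⟩
  have h2 := h.is_comm.comm ⟨a.1.1, ⟨a.1, a.2, rfl⟩⟩ ⟨b.1.1, ⟨b.1, b.2, rfl⟩⟩
  apply Subtype.ext
  apply Subtype.ext
  exact congrArg (fun t : (L.map X.subtype : Subgroup G) => (t : G)) h2

end Cfsg.Agent.Lib.Helper67.Cyc
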