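import Mathlib
import Cfsg.Agent.Lib.Helper67.CycB
import Cfsg.Agent.S0105

set_option autoImplicit false

namespace Cfsg.Agent.Lib.Helper67.Cyc

variable {G : Type*} [Group G]

/-- In a finite cyclic subgroup, `c ^ orderOf y = 1` forces `c ∈ ⟨y⟩`. -/
theorem mem_zpowers_of_pow_orderOf [Finite G] (P : Subgroup G) (hcyc : IsCyclic P) {y c : G}
    (hy : y ∈ P) (hc : c ∈ P) (hcy : c ^ orderOf y = 1) : c ∈ Subgroup.zpowers y := by
  classical
  have := Fintype.ofFinite P
  let Y : P := ⟨y, hy⟩
  have hoY : orderOf Y = orderOf y := Subgroup.orderOf_mk _ _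
  have hpos : 0 < orderOf y := orderOf_pos y
  let S : Finset P := Finset.univ.filter (fun a => a ^ orderOf y = 1)
  have hS : S.card ≤ orderOf y := IsCyclic.card_pow_eq_one_le (α := P) hpos
  let T : Finset P := (Finset.range (orderOf y)).image (fun i => Y ^ i)
  have hT : T.card = orderOf y := by
    rw [Finset.card_image_of_injOn, Finset.card_range]
    intro a ha b hb hab
    have ha' : a < orderOf Y := by rw [hoY]; exact Finset.mem_range.mp ha
    have hb' : b < orderOf Y := by rw [hoY]; exact Finset.mem_range.mp hb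
    exact pow_injOn_Iio_orderOf ha' hb' hab
  have hTS : T ⊆ S := by
    intro a ha
    obtain ⟨i, -, rfl⟩ := Finset.mem_image.mp ha
    rw [Finset.mem_filter]
    refine ⟨Finset.mem_univ _, ?_⟩
    rw [← pow_mul, mul_comm, pow_mul, ← hoY, pow_orderOf_eq_one, one_pow]
  have hTS' : T = S := Finset.eq_of_subset_of_card_le hTS (by rw [hT]; exact hS)
  have hcS : (⟨c, hc⟩ : P) ∈ S := by
    rw [Finset.mem_filter]
    exact ⟨Finset.mem_univ _, Subtype.ext (by simpa using hcy)⟩
  rw [← hTS'] at hcS
  obtain ⟨i, -, hi⟩ := Finset.mem_image.mp hcS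
  have hi' : y ^ i = c := by
    have := congrArg (fun t : P => (t : G)) hi
    simpa [Y] using this
  rw [← hi']
  exact Subgroup.pow_mem _ (Subgroup.mem_zpowers y) _

/-- Subgroups of a cyclic subgroup are normalized by whatever normalizes it. -/
theorem conj_mem_of_le_cyclic [Finite G] (P : Subgroup G) (hcyc : IsCyclic P) (Q : Subgroup G)
    (hQP : Q ≤ P) (g : G) (hg : ∀ z ∈ P, g * z * g⁻¹ ∈ P) : ∀ z ∈ Q, g * z * g⁻¹ ∈ Q := by
  intro z hz
  have h1 : g * z * g⁻¹ ∈ Subgroup.zpowers z := by
    apply mem_zpowers_of_pow_orderOf P hcyc (hQP hz) (hg z (hQP hz))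
    rw [conj_pow, pow_orderOf_eq_one]
    simp
  exact (Subgroup.zpowers_le.mpr hz) h1

/-- conjugating a centralizing element by a normalizing element -/
theorem conj_mem_centralizer (Q : Subgroup G) {g c : G}
    (hg : g ∈ Subgroup.normalizer (Q : Set G)) (hc : c ∈ Subgroup.centralizer (Q : Set G)) :
    g * c * g⁻¹ ∈ Subgroup.centralizer (Q : Set G) := by
  rw [Subgroup.mem_centralizer_iff] at hc ⊢
  intro q hq
  have hq' : g⁻¹ * q * g ∈ Q := by
    have := (Subgroup.mem_normalizer_iff.mp (Subgroup.inv_mem _ hg) q).mp hq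
    simpa using this
  have h1 := hc _ hq'
  calc q * (g * c * g⁻¹) = g * ((g⁻¹ * q * g) * c) * g⁻¹ := by group
    _ = g * (c * (g⁻¹ * q * g)) * g⁻¹ := by rw [h1]
    _ = g * c * g⁻¹ * q := by group

/-- an element of order prime to `p` and of `p`-power order is trivial -/
theorem eq_one_of_coprime_of_pow {p : ℕ} [Fact p.Prime] {c : G} (h1 : (orderOf c).Coprime p)
    (k : ℕ) (h2 : c ^ p ^ k = 1) : c = 1 := by
  have h3 : orderOf c ∣ p ^ k := orderOf_dvd_of_pow_eq_one h2
  have h4 : (orderOf c).Coprime (p ^ k) := Nat.Coprime.pow_right k h1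
  exact orderOf_eq_one_iff.mp (Nat.Coprime.eq_one_of_dvd h4 h3)

theorem coprime_orderOf_of_mem [Finite G] {p : ℕ} [Fact p.Prime] (B : Subgroup G)
    (hB : ¬ p ∣ Nat.card B) {b : G} (hb : b ∈ B) : (orderOf b).Coprime p := by
  have hp : p.Prime := Fact.out
  have h1 : orderOf b ∣ Nat.card B := by
    have := orderOf_dvd_natCard (⟨b, hb⟩ : B)
    rwa [Subgroup.orderOf_mk] at this
  exact ((Nat.Prime.coprime_iff_not_dvd hp).mpr (fun h => hB (h.trans h1))).symm

theorem orderOf_conj_eq (u b : G) : orderOf (u * b * u⁻¹) = orderOf b :=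
  (MulAut.conj u).orderOf_eq b

theorem exists_pow_of_mem_sylow {p : ℕ} [Fact p.Prime] (P : Sylow p G) {z : G}
    (hz : z ∈ (P : Subgroup G)) : ∃ k : ℕ, z ^ p ^ k = 1 := by
  obtain ⟨k, hk⟩ := P.isPGroup' ⟨z, hz⟩
  exact ⟨k, by simpa using congrArg Subtype.val hk⟩

/-- The minimal counterexample configuration. -/
structure CE (p : ℕ) (G : Type*) [Group G] : Prop where
  cyc : ∀ P : Sylow p G, IsCyclic (P : Subgroup G)
  ab : PAb p G
  nn : ∀ P : Sylow p G, ¬ (P : Subgroup G).Normal
  nc : ¬ Cfsg.HasNormalPComplement p G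
  ih : ∀ (X : Subgroup G) (P : Sylow p G), X ≠ ⊤ → (P : Subgroup G) ≤ X →
      X ≤ Subgroup.normalizer ((P : Subgroup G) : Set G) ∨ Cfsg.HasNormalPComplement p X

theorem CE.ne_bot {p : ℕ} (h : CE p G) (P : Sylow p G) : (P : Subgroup G) ≠ ⊥ := by
  intro hb
  apply h.nn P
  rw [hb]
  infer_instance

variable [Finite G] {p : ℕ} [Fact p.Prime]

/-- a `p'`-element of `N_G(P)` acting without fixed points on `P` -/
theorem CE.exists_u (h : CE p G) (P : Sylow p G) :
    ∃ u : G, u ∈ Subgroup.normalizer ((P : Subgroup G) : Set G) ∧ (orderOf u).Coprime p ∧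
      ∀ z ∈ (P : Subgroup G), u * z = z * u → z = 1 := by
  by_contra hcon
  apply h.nc
  apply Cfsg.Agent.Lib.Helper2.hasNormalPComplement_of_normalizer_le_centralizer P
  intro g hg
  rw [Subgroup.mem_centralizer_iff]
  intro z0 hz0
  have hgc : g ∈ Subgroup.centralizer ({z0} : Set G) := by
    apply parts_induction p g
    · rintro a ha ⟨k, hk⟩
      have haN : a ∈ Subgroup.normalizer ((P : Subgroup G) : Set G) :=
        (Subgroup.zpowers_le.mpr hg) ha
      have haP := mem_sylow_of_normalizer P a haN k hk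
      rw [Subgroup.mem_centralizer_iff]
      intro y hy
      rw [Set.mem_singleton_iff] at hy
      rw [hy]
      exact comm_of_cyclic _ (h.cyc P) hz0 haP
    · intro b hb hbp
      have hbN : b ∈ Subgroup.normalizer ((P : Subgroup G) : Set G) :=
        (Subgroup.zpowers_le.mpr hg) hb
      by_contra hbc
      apply hcon
      refine ⟨b, hbN, hbp, ?_⟩
      intro z hz hbz
      by_contra hz1
      have h1 := commute_of_commute_ne_one (P : Subgroup G) P.isPGroup' (h.cyc P) b
        (fun w hw => conj_mem_of_mem_normalizer _ hbN hw) hbp z hz hz1 hbz z0 hz0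
      apply hbc
      rw [Subgroup.mem_centralizer_iff]
      intro y hy
      rw [Set.mem_singleton_iff] at hy
      rw [hy]
      exact h1.symm
  exact Subgroup.mem_centralizer_iff.mp hgc z0 (Set.mem_singleton z0)

/-- If `X ⊇ P` has a normal `p`-complement and is normalized by `u`, then `X ≤ N_G(P)`. -/
theorem CE.le_normalizer_of_complement (h : CE p G) (P : Sylow p G) (X : Subgroup G)
    (hPX : (P : Subgroup G) ≤ X) (hX : Cfsg.HasNormalPComplement p X)
    (hnX : ∀ u ∈ Subgroup.normalizer ((P : Subgroup G) : Set G), ∀ c ∈ X, u * c * u⁻¹ ∈ X) :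
    X ≤ Subgroup.normalizer ((P : Subgroup G) : Set G) := by
  obtain ⟨u, huN, hup, hfix⟩ := h.exists_u P
  obtain ⟨B, hBX, hBn, hBp, hBall, hXle, -⟩ := exists_internal_complement P X hPX hX
  have huB : u ∈ Subgroup.normalizer (B : Set G) := by
    apply mem_normalizer_of_forall_conj_mem
    intro b hb
    apply hBall _ (hnX u huN b (hBX hb))
    rw [orderOf_conj_eq]
    exact coprime_orderOf_of_mem B hBp hb
  have hcomm := commute_of_normalizes h.ab B hBp u hup huB
  have huL : u ∈ Subgroup.centralizer (B : Set G) := by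
    rw [Subgroup.mem_centralizer_iff]
    intro b hb
    exact (hcomm b hb).symm
  have hPn : ∀ z ∈ (P : Subgroup G), z ∈ Subgroup.normalizer (B : Set G) := by
    intro z hz
    apply mem_normalizer_of_forall_conj_mem
    intro b hb
    exact hBn z (hPX hz) b hb
  have hPL : (P : Subgroup G) ≤ Subgroup.centralizer (B : Set G) := by
    apply le_of_fpf (P : Subgroup G) _ u (fun z hz => conj_mem_of_mem_normalizer _ huN hz) hfix huL
    intro z hz
    exact conj_mem_centralizer B (hPn z hz) (Subgroup.inv_mem _ huL)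
  refine hXle.trans (sup_le ?_ Subgroup.le_normalizer)
  intro b hb
  apply mem_normalizer_of_forall_conj_mem
  intro z hz
  have h1 : z * b = b * z := Subgroup.mem_centralizer_iff.mp (hPL hz) b hb |>.symm
  have h2 : b * z * b⁻¹ = z := by rw [← h1, mul_inv_cancel_right]
  rw [h2]
  exact hz

/-- Lemma A: the normalizer of a nontrivial subgroup of `P` normalizes `P`. -/
theorem CE.mem_normalizer_of_normalizes (h : CE p G) (P : Sylow p G) (Q : Subgroup G)
    (hQP : Q ≤ (P : Subgroup G)) (hQ : Q ≠ ⊥) (g : G) (hg : ∀ z ∈ Q, g * z * g⁻¹ ∈ Q) :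
    g ∈ Subgroup.normalizer ((P : Subgroup G) : Set G) := by
  set C := Subgroup.centralizer (Q : Set G) with hC
  have hPC : (P : Subgroup G) ≤ C := by
    intro z hz
    rw [hC, Subgroup.mem_centralizer_iff]
    intro q hq
    exact comm_of_cyclic _ (h.cyc P) (hQP hq) hz
  obtain ⟨y, hyQ⟩ := (Subgroup.ne_bot_iff_exists_ne_one.mp hQ)
  have hyQ' : (y : G) ∈ Q := y.2
  have hy1' : (y : G) ≠ 1 := fun h0 => hyQ (Subtype.ext h0)
  have hB : Cfsg.HasNormalPComplement p C := by
    apply hasNormalPComplement_subgroup P C hPC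
    intro g' hgC hgN
    have hg2 : g' ∈ Subgroup.centralizer ((P : Subgroup G) : Set G) := by
      apply parts_induction p g'
      · rintro a ha ⟨k, hk⟩
        have haN : a ∈ Subgroup.normalizer ((P : Subgroup G) : Set G) :=
          (Subgroup.zpowers_le.mpr hgN) ha
        have haP := mem_sylow_of_normalizer P a haN k hk
        rw [Subgroup.mem_centralizer_iff]
        intro z hz
        exact comm_of_cyclic _ (h.cyc P) hz haP
      · intro b hb hbp
        have hbN : b ∈ Subgroup.normalizer ((P : Subgroup G) : Set G) :=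
          (Subgroup.zpowers_le.mpr hgN) hb
        have hbC : b ∈ C := (Subgroup.zpowers_le.mpr hgC) hb
        have hby : b * (y : G) = (y : G) * b :=
          (Subgroup.mem_centralizer_iff.mp hbC (y : G) hyQ').symm
        have h1 := commute_of_commute_ne_one (P : Subgroup G) P.isPGroup' (h.cyc P) b
          (fun w hw => conj_mem_of_mem_normalizer _ hbN hw) hbp (y : G) (hQP hyQ') hy1' hby
        rw [Subgroup.mem_centralizer_iff]
        intro z hz
        exact (h1 z hz).symm
    intro z hz
    exact (Subgroup.mem_centralizer_iff.mp hg2 z hz).symm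
  have hCN : C ≤ Subgroup.normalizer ((P : Subgroup G) : Set G) := by
    apply h.le_normalizer_of_complement P C hPC hB
    intro u huN c hc
    have huQ : u ∈ Subgroup.normalizer (Q : Set G) := by
      apply mem_normalizer_of_forall_conj_mem
      exact conj_mem_of_le_cyclic (P : Subgroup G) (h.cyc P) Q hQP u
        (fun z hz => conj_mem_of_mem_normalizer _ huN hz)
    exact conj_mem_centralizer Q huQ hc
  have hgQ : g ∈ Subgroup.normalizer (Q : Set G) := mem_normalizer_of_forall_conj_mem Q g hg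
  apply mem_normalizer_of_forall_conj_mem
  intro z hz
  have h1 : g * z * g⁻¹ ∈ C := conj_mem_centralizer Q hgQ (hPC hz)
  obtain ⟨k, hk⟩ := exists_pow_of_mem_sylow P hz
  apply mem_sylow_of_normalizer P _ (hCN h1) k
  rw [conj_pow, hk]
  simp

/-- centralizers of nontrivial elements of `P` normalize `P` -/
theorem CE.mem_normalizer_of_commute (h : CE p G) (P : Sylow p G) {y g : G}
    (hy : y ∈ (P : Subgroup G)) (hy1 : y ≠ 1) (hg : g * y = y * g) :
    g ∈ Subgroup.normalizer ((P : Subgroup G) : Set G) := by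
  apply h.mem_normalizer_of_normalizes P (Subgroup.zpowers y) (Subgroup.zpowers_le.mpr hy)
  · intro hb
    apply hy1
    have : y ∈ (⊥ : Subgroup G) := hb ▸ Subgroup.mem_zpowers y
    exact Subgroup.mem_bot.mp this
  · intro z hz
    obtain ⟨n, rfl⟩ := Subgroup.mem_zpowers_iff.mp hz
    have h1 : g * y ^ n = y ^ n * g := ((show Commute g y from hg).zpow_right n).eq
    rw [h1, mul_inv_cancel_right]
    exact hz

/-- elements inverting a nontrivial element of `P` normalize `P` -/
theorem CE.mem_normalizer_of_invert (h : CE p G) (P : Sylow p G) {y g : G}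
    (hy : y ∈ (P : Subgroup G)) (hy1 : y ≠ 1) (hg : g * y * g⁻¹ = y⁻¹) :
    g ∈ Subgroup.normalizer ((P : Subgroup G) : Set G) := by
  apply h.mem_normalizer_of_normalizes P (Subgroup.zpowers y) (Subgroup.zpowers_le.mpr hy)
  · intro hb
    apply hy1
    have : y ∈ (⊥ : Subgroup G) := hb ▸ Subgroup.mem_zpowers y
    exact Subgroup.mem_bot.mp this
  · intro z hz
    obtain ⟨n, rfl⟩ := Subgroup.mem_zpowers_iff.mp hz
    have h1 : g * y ^ n * g⁻¹ = (y⁻¹) ^ n := by
      rw [← hg]
      exact (map_zpow (MulAut.conj g) y n)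
    rw [h1]
    exact Subgroup.zpow_mem _ (Subgroup.inv_mem _ (Subgroup.mem_zpowers y)) n

/-- a `p'`-element centralizing a nontrivial element of `P` centralizes `P` -/
theorem CE.commute_of_commute (h : CE p G) (P : Sylow p G) {y w : G}
    (hy : y ∈ (P : Subgroup G)) (hy1 : y ≠ 1) (hw : (orderOf w).Coprime p)
    (hwy : w * y = y * w) : ∀ z ∈ (P : Subgroup G), w * z = z * w := by
  have hwN := h.mem_normalizer_of_commute P hy hy1 hwy
  exact commute_of_commute_ne_one (P : Subgroup G) P.isPGroup' (h.cyc P) w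
    (fun z hz => conj_mem_of_mem_normalizer _ hwN hz) hw y hy hy1 hwy

/-- no proper normal subgroup contains a Sylow `p`-subgroup -/
theorem CE.eq_top_of_normal (h : CE p G) (M : Subgroup G) (hM : M.Normal) (P : Sylow p G)
    (hPM : (P : Subgroup G) ≤ M) : M = ⊤ := by
  by_contra hne
  have aux : ¬ (M ≤ Subgroup.normalizer ((P : Subgroup G) : Set G)) := by
    intro hle
    apply h.nn P
    refine ⟨fun z hz g => ?_⟩
    obtain ⟨k, hk⟩ := exists_pow_of_mem_sylow P hz
    apply mem_sylow_of_normalizer P _ (hle (hM.conj_mem z (hPM hz) g)) k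
    rw [conj_pow, hk]
    simp
  rcases h.ih M P hne hPM with h1 | h1
  · exact aux h1
  · apply aux
    apply h.le_normalizer_of_complement P M hPM h1
    intro u _ c hc
    exact hM.conj_mem c hc u

/-- transfer: an abelian Sylow subgroup for another prime meets the centre of its normalizer
trivially -/
theorem CE.eq_one_of_central (h : CE p G) (r : ℕ) [Fact r.Prime] (hrp : r ≠ p) (R : Sylow r G)
    {v : G} (hv : v ∈ (R : Subgroup G))
    (hc : ∀ g ∈ Subgroup.normalizer ((R : Subgroup G) : Set G), g * v = v * g) : v = 1 := by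
  have hp : p.Prime := Fact.out
  have hr : r.Prime := Fact.out
  have hRp : ¬ p ∣ Nat.card (R : Subgroup G) := by
    obtain ⟨k, hk⟩ := R.isPGroup'.exists_card_eq
    rw [hk]
    intro hd
    exact hrp ((Nat.prime_dvd_prime_iff_eq hp hr).mp (hp.dvd_of_dvd_pow hd)).symm
  have hR : IsMulCommutative (R : Subgroup G) := h.ab R hRp
  obtain ⟨N, hN, ⟨e⟩⟩ := Cfsg.Agent.S0105.result R hR
  obtain ⟨k, hk⟩ := R.isPGroup'.exists_card_eq
  have hcard : Nat.card (G ⧸ N) ∣ r ^ k := by
    rw [Nat.card_congr e.toEquiv, ← hk]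
    exact Subgroup.card_dvd_of_le inf_le_left
  have P : Sylow p G := Classical.arbitrary _
  have hPN : (P : Subgroup G) ≤ N := by
    intro y hy
    obtain ⟨j, hj⟩ := exists_pow_of_mem_sylow P hy
    rw [← QuotientGroup.eq_one_iff]
    have h1 : (QuotientGroup.mk y : G ⧸ N) ^ p ^ j = 1 := by
      rw [← QuotientGroup.mk_pow, hj]; rfl
    have h2 : (QuotientGroup.mk y : G ⧸ N) ^ r ^ k = 1 := by
      obtain ⟨m, hm⟩ := hcard
      rw [hm, pow_mul, pow_card_eq_one', one_pow]
    have h3 := pow_gcd_eq_one.mpr ⟨h1, h2⟩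
    have h4 : Nat.gcd (p ^ j) (r ^ k) = 1 :=
      Nat.Coprime.pow _ _ ((Nat.coprime_primes hp hr).mpr (Ne.symm hrp))
    rwa [h4, pow_one] at h3
  have hNtop : N = ⊤ := h.eq_top_of_normal N hN P hPN
  have hcard1 : Nat.card (G ⧸ N) = 1 := by
    rw [← Subgroup.index_eq_card, hNtop, Subgroup.index_top]
  rw [Nat.card_congr e.toEquiv] at hcard1
  have hbot := Subgroup.eq_bot_of_card_eq _ hcard1
  have hmem2 : v ∈ Subgroup.centralizer (Subgroup.normalizer ((R : Subgroup G) : Set G) : Set G) :=
    Subgroup.mem_centralizer_iff.mpr hc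
  have hmem : v ∈ (R : Subgroup G) ⊓
      Subgroup.centralizer (Subgroup.normalizer ((R : Subgroup G) : Set G) : Set G) :=
    ⟨hv, hmem2⟩
  exact Subgroup.mem_bot.mp (hbot.le hmem)

end Cfsg.Agent.Lib.Helper67.Cyc
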