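import Mathlib
import Cfsg.Agent.Lib.Helper67.CycC

set_option autoImplicit false

namespace Cfsg.Agent.Lib.Helper67.Cyc

variable {G : Type*} [Group G]

theorem orderOf_pow_prime_pow_pred {x : G} {p j : ℕ} (hp : p.Prime) (hj : orderOf x = p ^ j)
    (hj0 : j ≠ 0) : orderOf (x ^ p ^ (j - 1)) = p := by
  rw [orderOf_pow_of_dvd (pow_ne_zero _ hp.ne_zero) (by rw [hj]; exact pow_dvd_pow p (by omega)), hj]
  have : p ^ j = p ^ (j - 1) * p := by rw [← pow_succ]; congr 1; omega
  rw [this, Nat.mul_div_cancel_left _ (pow_pos hp.pos _)]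

theorem not_dvd_card_sylow_of_ne [Finite G] {p r : ℕ} [Fact p.Prime] [Fact r.Prime] (hrp : r ≠ p)
    (R : Sylow r G) : ¬ p ∣ Nat.card (R : Subgroup G) := by
  have hp : p.Prime := Fact.out
  have hr : r.Prime := Fact.out
  obtain ⟨k, hk⟩ := R.isPGroup'.exists_card_eq
  rw [hk]
  intro hd
  exact hrp ((Nat.prime_dvd_prime_iff_eq hp hr).mp (hp.dvd_of_dvd_pow hd)).symm

/-- an element of `N_G(P)` commuting with a nontrivial element of the cyclic Sylow subgroup `P`
centralizes `P` -/
theorem mem_centralizer_of_commute [Finite G] {p : ℕ} [Fact p.Prime] (P : Sylow p G)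
    (hcyc : IsCyclic (P : Subgroup G)) {g y : G}
    (hgN : g ∈ Subgroup.normalizer ((P : Subgroup G) : Set G)) (hy : y ∈ (P : Subgroup G))
    (hy1 : y ≠ 1) (hgy : g * y = y * g) :
    g ∈ Subgroup.centralizer ((P : Subgroup G) : Set G) := by
  apply parts_induction p g
  · rintro a ha ⟨k, hk⟩
    have haN : a ∈ Subgroup.normalizer ((P : Subgroup G) : Set G) :=
      (Subgroup.zpowers_le.mpr hgN) ha
    have haP := mem_sylow_of_normalizer P a haN k hk
    rw [Subgroup.mem_centralizer_iff]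
    intro z hz
    exact comm_of_cyclic _ hcyc hz haP
  · intro b hb hbp
    have hbN : b ∈ Subgroup.normalizer ((P : Subgroup G) : Set G) :=
      (Subgroup.zpowers_le.mpr hgN) hb
    have hby : b * y = y * b := by
      obtain ⟨n, rfl⟩ := Subgroup.mem_zpowers_iff.mp hb
      exact ((show Commute g y from hgy).zpow_left n).eq
    have h1 := commute_of_commute_ne_one (P : Subgroup G) P.isPGroup' hcyc b
      (fun w hw => conj_mem_of_mem_normalizer _ hbN hw) hbp y hy hy1 hby
    rw [Subgroup.mem_centralizer_iff]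
    intro z hz
    exact (h1 z hz).symm

variable [Finite G] {p : ℕ} [Fact p.Prime]

/-- For a Sylow `r`-subgroup `R`, `r ≠ p`, some `p`-element of `N_G(R)` has no nontrivial fixed
point on `R`. -/
theorem CE.exists_fpf (h : CE p G) (r : ℕ) [Fact r.Prime] (hrp : r ≠ p) (R : Sylow r G) :
    ∃ x : G, x ∈ Subgroup.normalizer ((R : Subgroup G) : Set G) ∧ (∃ k : ℕ, x ^ p ^ k = 1) ∧
      ∀ v ∈ (R : Subgroup G), x * v = v * x → v = 1 := by
  have hp : p.Prime := Fact.out
  have hRp : ¬ p ∣ Nat.card (R : Subgroup G) := not_dvd_card_sylow_of_ne hrp R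
  set N := Subgroup.normalizer ((R : Subgroup G) : Set G) with hN
  set C := Subgroup.centralizer ((R : Subgroup G) : Set G) with hC
  have hi : ∀ g ∈ N, (orderOf g).Coprime p → g ∈ C := by
    intro g hg hgp
    have h1 := commute_of_normalizes h.ab (R : Subgroup G) hRp g hgp hg
    rw [hC, Subgroup.mem_centralizer_iff]
    intro b hb
    exact (h1 b hb).symm
  have hnC : (C.subgroupOf N).Normal := by
    refine ⟨fun c hc g => ?_⟩
    rw [Subgroup.mem_subgroupOf] at hc ⊢
    exact conj_mem_centralizer (R : Subgroup G) g.2 hc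
  have hQ : IsPGroup p (N ⧸ C.subgroupOf N) := by
    intro q
    obtain ⟨g, rfl⟩ := QuotientGroup.mk_surjective q
    obtain ⟨j, m', u, v, hcop, ho1, ho2, hg⟩ :=
      Cfsg.Agent.Lib.Helper65.exists_pPart_decomp (g : G) (orderOf_pos _).ne' p hp
    refine ⟨j, ?_⟩
    rw [← QuotientGroup.mk_pow, QuotientGroup.eq_one_iff, Subgroup.mem_subgroupOf,
      Subgroup.coe_pow]
    apply hi
    · exact Subgroup.pow_mem _ g.2 _
    · rw [ho2]; exact hcop.symm
  obtain ⟨n, hn⟩ := IsPGroup.iff_card.mp hQ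
  have hidxC : (C.subgroupOf N).index = p ^ n := by rw [Subgroup.index_eq_card]; exact hn
  let P1' : Sylow p N := Classical.arbitrary _
  have hidx1 : ((C.subgroupOf N) ⊔ (P1' : Subgroup N)).index ∣ p ^ n :=
    hidxC ▸ Subgroup.index_dvd_of_le le_sup_left
  have hidx2 : ((C.subgroupOf N) ⊔ (P1' : Subgroup N)).index ∣ (P1' : Subgroup N).index :=
    Subgroup.index_dvd_of_le le_sup_right
  have htop : (C.subgroupOf N) ⊔ (P1' : Subgroup N) = ⊤ := by
    rw [← Subgroup.index_eq_one]
    obtain ⟨i, -, hi'⟩ := (Nat.dvd_prime_pow hp).mp hidx1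
    rcases Nat.eq_zero_or_pos i with h0 | h0
    · rw [hi', h0, pow_zero]
    · exfalso
      apply P1'.not_dvd_index
      exact (dvd_pow_self p h0.ne').trans (hi' ▸ hidx2)
  let P1 : Subgroup G := (P1' : Subgroup N).map N.subtype
  have hNle : N ≤ C ⊔ P1 := by
    intro g hg
    have h1 : (⟨g, hg⟩ : N) ∈ (C.subgroupOf N) ⊔ (P1' : Subgroup N) := by rw [htop]; trivial
    have h2 : g ∈ ((C.subgroupOf N) ⊔ (P1' : Subgroup N)).map N.subtype := ⟨⟨g, hg⟩, h1, rfl⟩
    rw [Subgroup.map_sup, Subgroup.subgroupOf_map_subtype] at h2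
    have hle' : C ⊓ N ⊔ P1 ≤ C ⊔ P1 := sup_le_sup_right inf_le_left _
    exact hle' h2
  have hP1 : IsPGroup p P1 := P1'.isPGroup'.map N.subtype
  obtain ⟨P', hP'⟩ := hP1.exists_le_sylow
  have hcyc1 : IsCyclic P1 := isCyclic_of_le hP' (h.cyc P')
  obtain ⟨x', hx'⟩ := IsCyclic.exists_generator (α := P1)
  refine ⟨x'.1, ?_, ?_, ?_⟩
  · obtain ⟨z, -, hz⟩ := x'.2
    rw [← hz]
    exact z.2
  · obtain ⟨k, hk⟩ := hP1 x'
    exact ⟨k, by simpa using congrArg Subtype.val hk⟩
  · intro v hv hxv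
    apply h.eq_one_of_central r hrp R hv
    intro g hg
    have hle : C ⊔ P1 ≤ Subgroup.centralizer ({v} : Set G) := by
      apply sup_le
      · intro c hc
        rw [Subgroup.mem_centralizer_iff]
        intro y hy
        rw [Set.mem_singleton_iff] at hy
        rw [hy]
        exact Subgroup.mem_centralizer_iff.mp hc v hv
      · intro y hy
        obtain ⟨n, hn⟩ := Subgroup.mem_zpowers_iff.mp (hx' ⟨y, hy⟩)
        have hy' : y = x'.1 ^ n := by
          have := congrArg (fun t : P1 => (t : G)) hn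
          simpa using this.symm
        rw [hy', Subgroup.mem_centralizer_iff]
        intro w hw
        rw [Set.mem_singleton_iff] at hw
        rw [hw]
        exact ((show Commute x'.1 v from hxv).zpow_left n).eq.symm
    have h3 := hle (hNle hg)
    exact (Subgroup.mem_centralizer_iff.mp h3 v (Set.mem_singleton v)).symm

/-- version with an element of order `p` all of whose nontrivial powers are fixed-point-free -/
theorem CE.exists_fpf_prime (h : CE p G) (r : ℕ) [Fact r.Prime] (hrp : r ≠ p) (R : Sylow r G)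
    (hR : (R : Subgroup G) ≠ ⊥) :
    ∃ x : G, x ∈ Subgroup.normalizer ((R : Subgroup G) : Set G) ∧ orderOf x = p ∧
      ∀ n : ℕ, ¬ p ∣ n → ∀ v ∈ (R : Subgroup G), x ^ n * v = v * x ^ n → v = 1 := by
  obtain ⟨x, hxN, ⟨k, hk⟩, hfix⟩ := h.exists_fpf r hrp R
  have hp : p.Prime := Fact.out
  have hRp : ¬ p ∣ Nat.card (R : Subgroup G) := not_dvd_card_sylow_of_ne hrp R
  obtain ⟨v0, hv0⟩ := Subgroup.ne_bot_iff_exists_ne_one.mp hR
  have hx1 : x ≠ 1 := by
    rintro rfl
    exact hv0 (Subtype.ext (hfix v0.1 v0.2 (by simp)))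
  obtain ⟨j, -, hj⟩ := (Nat.dvd_prime_pow hp).mp (orderOf_dvd_of_pow_eq_one hk)
  have hj0 : j ≠ 0 := by
    rintro rfl
    rw [pow_zero, orderOf_eq_one_iff] at hj
    exact hx1 hj
  have hox0 : orderOf (x ^ p ^ (j - 1)) = p := orderOf_pow_prime_pow_pred hp hj hj0
  refine ⟨x ^ p ^ (j - 1), Subgroup.pow_mem _ hxN _, hox0, ?_⟩
  intro n hn v hv hcomm
  have hne : (x ^ p ^ (j - 1)) ^ n ≠ 1 := by
    intro h1
    exact hn (hox0 ▸ orderOf_dvd_of_pow_eq_one h1)
  have hZ : IsPGroup p (Subgroup.zpowers x) :=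
    IsPGroup.of_card (n := j) (by rw [Nat.card_zpowers, hj])
  obtain ⟨P', hP'⟩ := hZ.exists_le_sylow
  have hxP' : x ∈ (P' : Subgroup G) := hP' (Subgroup.mem_zpowers x)
  have hvp : (orderOf v).Coprime p := coprime_orderOf_of_mem (R : Subgroup G) hRp hv
  have hall := h.commute_of_commute P' (y := (x ^ p ^ (j - 1)) ^ n)
    (Subgroup.pow_mem _ (Subgroup.pow_mem _ hxP' _) _) hne hvp hcomm.symm
  exact hfix v hv (hall x hxP').symm

theorem CE.card_sylow_modEq (h : CE p G) (r : ℕ) [Fact r.Prime] (hrp : r ≠ p) (R : Sylow r G) :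
    Nat.card (R : Subgroup G) ≡ 1 [MOD p] := by
  obtain ⟨x, hxN, ⟨k, hk⟩, hfix⟩ := h.exists_fpf r hrp R
  exact card_modEq_one_of_fpf (R : Subgroup G) x
    (fun w hw => conj_mem_of_mem_normalizer _ hxN hw) k hk hfix

/-- `|N_G(P) : P| ≡ 1 mod p` -/
theorem CE.card_normalizer (h : CE p G) (P : Sylow p G) :
    ∃ k : ℕ, Nat.card (Subgroup.normalizer ((P : Subgroup G) : Set G)) =
      Nat.card (P : Subgroup G) * k ∧ k ≡ 1 [MOD p] := by
  have hidx : (P : Subgroup G).index ≡ 1 [MOD p] := by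
    apply index_modEq_one P
    intro r hr hrp
    have : Fact r.Prime := ⟨hr⟩
    have R : Sylow r G := Classical.arbitrary _
    rw [← R.card_eq_multiplicity]
    exact h.card_sylow_modEq r hrp R
  obtain ⟨k, hk⟩ := Subgroup.card_dvd_of_le (Subgroup.le_normalizer (H := (P : Subgroup G)))
  refine ⟨k, hk, ?_⟩
  have h1 := (P : Subgroup G).index_mul_card
  have h2 := (Subgroup.normalizer ((P : Subgroup G) : Set G)).index_mul_card
  have h3 : (P : Subgroup G).index =
      (Subgroup.normalizer ((P : Subgroup G) : Set G)).index * k := by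
    have hpos : 0 < Nat.card (P : Subgroup G) := Nat.card_pos
    apply Nat.eq_of_mul_eq_mul_right hpos
    rw [h1, ← h2, hk]
    ring
  have h4 : (Subgroup.normalizer ((P : Subgroup G) : Set G)).index ≡ 1 [MOD p] := by
    have h5 := Sylow.card_eq_index_normalizer P
    have h6 := card_sylow_modEq_one p G
    rw [h5] at h6
    exact h6
  rw [h3] at hidx
  have h5 : (Subgroup.normalizer ((P : Subgroup G) : Set G)).index * k ≡ 1 * k [MOD p] :=
    h4.mul_right k
  rw [one_mul] at h5
  exact h5.symm.trans hidx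

/-- the `p'`-part `W` of `C_G(P)`, central in `N_G(P)` -/
theorem CE.exists_W (h : CE p G) (P : Sylow p G) :
    ∃ W : Subgroup G, (∀ w ∈ W, ∀ z ∈ (P : Subgroup G), w * z = z * w) ∧ ¬ p ∣ Nat.card W ∧
      (∀ m : G, (orderOf m).Coprime p → (∀ z ∈ (P : Subgroup G), m * z = z * m) → m ∈ W) ∧
      Nat.card W * Nat.card (P : Subgroup G) =
        Nat.card (Subgroup.centralizer ((P : Subgroup G) : Set G)) ∧
      ∀ w ∈ W, ∀ g ∈ Subgroup.normalizer ((P : Subgroup G) : Set G), g * w = w * g := by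
  set X := Subgroup.centralizer ((P : Subgroup G) : Set G) with hX
  have hPX : (P : Subgroup G) ≤ X := by
    intro z hz
    rw [hX, Subgroup.mem_centralizer_iff]
    intro y hy
    exact comm_of_cyclic _ (h.cyc P) hy hz
  have hcX : Cfsg.HasNormalPComplement p X :=
    hasNormalPComplement_subgroup P X hPX
      (fun g hgX _ z hz => (Subgroup.mem_centralizer_iff.mp hgX z hz).symm)
  obtain ⟨W, hWX, hWn, hWp, hWall, -, hcard⟩ := exists_internal_complement P X hPX hcX
  have hW1 : ∀ w ∈ W, ∀ z ∈ (P : Subgroup G), w * z = z * w := fun w hw z hz =>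
    (Subgroup.mem_centralizer_iff.mp (hWX hw) z hz).symm
  refine ⟨W, hW1, hWp, ?_, hcard, ?_⟩
  · intro m hm hmP
    apply hWall m _ hm
    rw [hX, Subgroup.mem_centralizer_iff]
    intro z hz
    exact (hmP z hz).symm
  · intro w hw g hg
    have hgc : g ∈ Subgroup.centralizer ({w} : Set G) := by
      apply parts_induction p g
      · rintro a ha ⟨k, hk⟩
        have haN : a ∈ Subgroup.normalizer ((P : Subgroup G) : Set G) :=
          (Subgroup.zpowers_le.mpr hg) ha
        have haP := mem_sylow_of_normalizer P a haN k hk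
        rw [Subgroup.mem_centralizer_iff]
        intro y hy
        rw [Set.mem_singleton_iff] at hy
        rw [hy]
        exact hW1 w hw a haP
      · intro b hb hbp
        have hbN : b ∈ Subgroup.normalizer ((P : Subgroup G) : Set G) :=
          (Subgroup.zpowers_le.mpr hg) hb
        have hbW : b ∈ Subgroup.normalizer (W : Set G) := by
          apply mem_normalizer_of_forall_conj_mem
          intro w' hw'
          apply hWall _ (conj_mem_centralizer (P : Subgroup G) hbN (hWX hw'))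
          rw [orderOf_conj_eq]
          exact coprime_orderOf_of_mem W hWp hw'
        have h1 := commute_of_normalizes h.ab W hWp b hbp hbW w hw
        rw [Subgroup.mem_centralizer_iff]
        intro y hy
        rw [Set.mem_singleton_iff] at hy
        rw [hy]
        exact h1.symm
    exact (Subgroup.mem_centralizer_iff.mp hgc w (Set.mem_singleton w)).symm

omit [Finite G] in
theorem CE.exists_orderOf_eq (h : CE p G) (P : Sylow p G) :
    ∃ y : G, y ∈ (P : Subgroup G) ∧ orderOf y = p := by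
  have hp : p.Prime := Fact.out
  obtain ⟨y, hy⟩ := Subgroup.ne_bot_iff_exists_ne_one.mp (h.ne_bot P)
  obtain ⟨k, hk⟩ := exists_pow_of_mem_sylow P y.2
  have hy1 : (y : G) ≠ 1 := fun h0 => hy (Subtype.ext h0)
  obtain ⟨j, -, hj⟩ := (Nat.dvd_prime_pow hp).mp (orderOf_dvd_of_pow_eq_one hk)
  have hj0 : j ≠ 0 := by
    rintro rfl
    rw [pow_zero, orderOf_eq_one_iff] at hj
    exact hy1 hj
  exact ⟨(y : G) ^ p ^ (j - 1), Subgroup.pow_mem _ y.2 _, orderOf_pow_prime_pow_pred hp hj hj0⟩

/-- `|N_G(P) : C_G(P)| ≤ p - 1` -/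
theorem CE.card_normalizer_le (h : CE p G) (P : Sylow p G) :
    Nat.card (Subgroup.normalizer ((P : Subgroup G) : Set G)) ≤
      (p - 1) * Nat.card (Subgroup.centralizer ((P : Subgroup G) : Set G)) := by
  classical
  have hp : p.Prime := Fact.out
  obtain ⟨y0, hy0P, hoy0⟩ := h.exists_orderOf_eq P
  have hy01 : y0 ≠ 1 := by
    rintro rfl
    rw [orderOf_one] at hoy0
    exact hp.ne_one hoy0.symm
  set N := Subgroup.normalizer ((P : Subgroup G) : Set G) with hN
  set X := Subgroup.centralizer ((P : Subgroup G) : Set G) with hX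
  have := Fintype.ofFinite N
  have := Fintype.ofFinite X
  let f : N → G := fun g => g.1 * y0 * g.1⁻¹
  have hmem : ∀ g0 g : N, f g = f g0 → g0.1⁻¹ * g.1 ∈ X := by
    intro g0 g hfg
    have hfg' : g.1 * y0 * g.1⁻¹ = g0.1 * y0 * g0.1⁻¹ := hfg
    apply mem_centralizer_of_commute P (h.cyc P) (N.mul_mem (N.inv_mem g0.2) g.2) hy0P hy01
    calc g0.1⁻¹ * g.1 * y0 = g0.1⁻¹ * (g.1 * y0 * g.1⁻¹) * g.1 := by group
      _ = g0.1⁻¹ * (g0.1 * y0 * g0.1⁻¹) * g.1 := by rw [hfg']
      _ = y0 * (g0.1⁻¹ * g.1) := by group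
  have hfib : ∀ a ∈ (Finset.univ : Finset N).image f,
      ((Finset.univ : Finset N).filter (fun g => f g = a)).card ≤ Nat.card X := by
    intro a ha
    obtain ⟨g0, -, rfl⟩ := Finset.mem_image.mp ha
    rw [Nat.card_eq_fintype_card, ← Finset.card_univ]
    apply Finset.card_le_card_of_injOn
      (fun g => if hg : f g = f g0 then (⟨g0.1⁻¹ * g.1, hmem g0 g hg⟩ : X) else 1)
    · intro g _
      exact Finset.mem_coe.mpr (Finset.mem_univ _)
    · intro g hg g' hg' heq
      have hg1 : f g = f g0 := (Finset.mem_filter.mp (Finset.mem_coe.mp hg)).2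
      have hg1' : f g' = f g0 := (Finset.mem_filter.mp (Finset.mem_coe.mp hg')).2
      simp only [dif_pos hg1, dif_pos hg1'] at heq
      have h2 : g0.1⁻¹ * g.1 = g0.1⁻¹ * g'.1 := congrArg (fun t : X => (t : G)) heq
      exact Subtype.ext (mul_left_cancel h2)
  have himg : ((Finset.univ : Finset N).image f).card ≤ p - 1 := by
    have hsub : (Finset.univ : Finset N).image f ⊆
        ((Finset.range p).image (fun i => y0 ^ i)).erase 1 := by
      intro a ha
      obtain ⟨g, -, rfl⟩ := Finset.mem_image.mp ha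
      rw [Finset.mem_erase]
      constructor
      · intro h1
        apply hy01
        have h1' : g.1 * y0 * g.1⁻¹ = 1 := h1
        simpa using h1'
      · have h1 : f g ∈ Subgroup.zpowers y0 := by
          apply mem_zpowers_of_pow_orderOf (P : Subgroup G) (h.cyc P) hy0P
            (conj_mem_of_mem_normalizer _ g.2 hy0P)
          rw [conj_pow, pow_orderOf_eq_one]
          simp
        rw [← hoy0]
        exact (isOfFinOrder_of_finite y0).mem_zpowers_iff_mem_range_orderOf.mp h1
    calc ((Finset.univ : Finset N).image f).card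
        ≤ (((Finset.range p).image (fun i => y0 ^ i)).erase 1).card := Finset.card_le_card hsub
      _ = ((Finset.range p).image (fun i => y0 ^ i)).card - 1 :=
          Finset.card_erase_of_mem
            (Finset.mem_image.mpr ⟨0, Finset.mem_range.mpr hp.pos, pow_zero y0⟩)
      _ ≤ p - 1 := Nat.sub_le_sub_right (Finset.card_image_le.trans (by rw [Finset.card_range])) 1
  have h1 := Finset.card_le_mul_card_image (Finset.univ : Finset N) (Nat.card X) hfib
  rw [Finset.card_univ, ← Nat.card_eq_fintype_card] at h1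
  calc Nat.card N ≤ Nat.card X * ((Finset.univ : Finset N).image f).card := h1
    _ ≤ Nat.card X * (p - 1) := Nat.mul_le_mul_left _ himg
    _ = (p - 1) * Nat.card X := mul_comm _ _

/-- some nontrivial `p'`-element centralizes `P` -/
theorem CE.exists_central (h : CE p G) (P : Sylow p G) :
    ∃ w : G, w ≠ 1 ∧ (orderOf w).Coprime p ∧ ∀ z ∈ (P : Subgroup G), w * z = z * w := by
  have hp : p.Prime := Fact.out
  by_contra hcon
  obtain ⟨W, hW1, hW2, hW3, hW4, hW5⟩ := h.exists_W P
  have hWbot : W = ⊥ := by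
    rw [eq_bot_iff]
    intro w hw
    rw [Subgroup.mem_bot]
    by_contra hw1
    exact hcon ⟨w, hw1, coprime_orderOf_of_mem W hW2 hw, hW1 w hw⟩
  rw [hWbot, Subgroup.card_bot, one_mul] at hW4
  obtain ⟨k, hk, hk1⟩ := h.card_normalizer P
  have hle := h.card_normalizer_le P
  rw [← hW4, hk] at hle
  have hpos : 0 < Nat.card (P : Subgroup G) := Nat.card_pos
  have hkle : k ≤ p - 1 := by
    have h2 : Nat.card (P : Subgroup G) * k ≤ Nat.card (P : Subgroup G) * (p - 1) := by
      rw [mul_comm _ (p - 1)]; exact hle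
    exact Nat.le_of_mul_le_mul_left h2 hpos
  have hkeq : k = 1 := by
    have h2 : k % p = 1 % p := hk1
    have hp2 := hp.two_le
    rw [Nat.mod_eq_of_lt (by omega), Nat.mod_eq_of_lt hp.one_lt] at h2
    exact h2
  rw [hkeq, mul_one] at hk
  have hNP : Subgroup.normalizer ((P : Subgroup G) : Set G) = P :=
    (Subgroup.eq_of_le_of_card_ge Subgroup.le_normalizer hk.le).symm
  obtain ⟨u, huN, hup, hfix⟩ := h.exists_u P
  have huP : u ∈ (P : Subgroup G) := hNP ▸ huN
  obtain ⟨y, hy⟩ := Subgroup.ne_bot_iff_exists_ne_one.mp (h.ne_bot P)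
  exact hy (Subtype.ext (hfix y.1 y.2 (comm_of_cyclic _ (h.cyc P) huP y.2)))

/-- the centralizer of a nontrivial `p'`-element centralizing `P` is `N_G(P)` -/
theorem CE.mem_normalizer_of_commute_central (h : CE p G) (P : Sylow p G) {w : G} (hw1 : w ≠ 1)
    (hwp : (orderOf w).Coprime p) (hwP : ∀ z ∈ (P : Subgroup G), w * z = z * w) {g : G}
    (hg : g * w = w * g) : g ∈ Subgroup.normalizer ((P : Subgroup G) : Set G) := by
  obtain ⟨W, hW1, hW2, hW3, hW4, hW5⟩ := h.exists_W P
  have hwW : w ∈ W := hW3 w hwp hwP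
  set X := Subgroup.centralizer ({w} : Set G) with hX
  have hmemX : ∀ g' : G, g' * w = w * g' → g' ∈ X := by
    intro g' hg'
    rw [hX, Subgroup.mem_centralizer_iff]
    intro y hy
    rw [Set.mem_singleton_iff] at hy
    rw [hy]
    exact hg'.symm
  have hPX : (P : Subgroup G) ≤ X := fun z hz => hmemX z (hwP z hz).symm
  have hNX : Subgroup.normalizer ((P : Subgroup G) : Set G) ≤ X :=
    fun g' hg' => hmemX g' (hW5 w hwW g' hg')
  have hgX : g ∈ X := hmemX g hg
  have hXtop : X ≠ ⊤ := by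
    intro htop
    have hcen : ∀ g' : G, g' * w = w * g' := fun g' => by
      have h1 : g' ∈ X := htop ▸ Subgroup.mem_top g'
      exact (Subgroup.mem_centralizer_iff.mp h1 w rfl).symm
    obtain ⟨r, hr, hrw⟩ := Nat.exists_prime_and_dvd
      (show orderOf w ≠ 1 from fun h1 => hw1 (orderOf_eq_one_iff.mp h1))
    have : Fact r.Prime := ⟨hr⟩
    have hrp : r ≠ p := by
      rintro rfl
      exact (Nat.Prime.coprime_iff_not_dvd hr).mp hwp.symm hrw
    have hdpos : orderOf w / r ≠ 0 :=
      (Nat.div_pos (Nat.le_of_dvd (orderOf_pos w) hrw) hr.pos).ne'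
    have how' : orderOf (w ^ (orderOf w / r)) = r := by
      rw [orderOf_pow_of_dvd hdpos (Nat.div_dvd_of_dvd hrw)]
      exact Nat.div_div_self hrw (orderOf_pos w).ne'
    have hZ : IsPGroup r (Subgroup.zpowers (w ^ (orderOf w / r))) :=
      IsPGroup.of_card (n := 1) (by rw [Nat.card_zpowers, how', pow_one])
    obtain ⟨R, hR⟩ := hZ.exists_le_sylow
    have h1 := h.eq_one_of_central r hrp R (hR (Subgroup.mem_zpowers _)) (fun g' _ =>
      ((show Commute g' w from hcen g').pow_right _).eq)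
    rw [h1, orderOf_one] at how'
    exact hr.ne_one how'.symm
  rcases h.ih X P hXtop hPX with h1 | h1
  · exact h1 hgX
  · exfalso
    obtain ⟨B, hBX, hBn, hBp, hBall, -, -⟩ := exists_internal_complement P X hPX h1
    obtain ⟨u, huN, hup, hfix⟩ := h.exists_u P
    have huB : u ∈ B := hBall u (hNX huN) hup
    obtain ⟨y, hy⟩ := Subgroup.ne_bot_iff_exists_ne_one.mp (h.ne_bot P)
    apply hy
    apply Subtype.ext
    apply hfix y.1 y.2
    have hc1 : u * y.1 * u⁻¹ * y.1⁻¹ ∈ B := by
      have e : u * y.1 * u⁻¹ * y.1⁻¹ = u * (y.1 * u⁻¹ * y.1⁻¹) := by group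
      rw [e]
      exact B.mul_mem huB (hBn y.1 (hPX y.2) u⁻¹ (B.inv_mem huB))
    have hc2 : u * y.1 * u⁻¹ * y.1⁻¹ ∈ (P : Subgroup G) :=
      Subgroup.mul_mem _ (conj_mem_of_mem_normalizer _ huN y.2) (Subgroup.inv_mem _ y.2)
    obtain ⟨k, hk⟩ := exists_pow_of_mem_sylow P hc2
    have hc3 := eq_one_of_coprime_of_pow (coprime_orderOf_of_mem B hBp hc1) k hk
    have h2 : u * y.1 * u⁻¹ = y.1 := mul_inv_eq_one.mp hc3
    exact mul_inv_eq_iff_eq_mul.mp h2

/-- if `t ≠ 1` and its conjugate `x t x⁻¹` are `p'`-elements centralizing `P`, then `x ∈ N_G(P)` -/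
theorem CE.mem_normalizer_of_conj_central (h : CE p G) (P : Sylow p G) {t x : G} (ht1 : t ≠ 1)
    (htp : (orderOf t).Coprime p) (htP : ∀ z ∈ (P : Subgroup G), t * z = z * t)
    (hxt : ∀ z ∈ (P : Subgroup G), (x * t * x⁻¹) * z = z * (x * t * x⁻¹)) :
    x ∈ Subgroup.normalizer ((P : Subgroup G) : Set G) := by
  have h1 : x⁻¹ ∈ Subgroup.normalizer ((P : Subgroup G) : Set G) := by
    apply mem_normalizer_of_forall_conj_mem
    intro z hz
    have hc : (x⁻¹ * z * x⁻¹⁻¹) * t = t * (x⁻¹ * z * x⁻¹⁻¹) := by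
      have h2 := hxt z hz
      rw [inv_inv]
      have e1 : x⁻¹ * z * x * t = x⁻¹ * (z * (x * t * x⁻¹)) * x := by group
      have e2 : t * (x⁻¹ * z * x) = x⁻¹ * ((x * t * x⁻¹) * z) * x := by group
      rw [e1, e2, h2]
    have hN := h.mem_normalizer_of_commute_central P ht1 htp htP hc
    obtain ⟨k, hk⟩ := exists_pow_of_mem_sylow P hz
    apply mem_sylow_of_normalizer P _ hN k
    rw [conj_pow, hk]
    simp
  have h2 := Subgroup.inv_mem _ h1
  rwa [inv_inv] at h2

end Cfsg.Agent.Lib.Helper67.Cyc
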