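import Mathlib
import Cfsg.Agent.Lib.Helper67.CycD
import Cfsg.Agent.Lib.Helper67.Basic

set_option autoImplicit false

namespace Cfsg.Agent.Lib.Helper67.Cyc

variable {G : Type*} [Group G] [Finite G] {p : ℕ} [Fact p.Prime]

/-- Setting: `v ≠ 1` in a Sylow `r`-subgroup `R` centralizes `P`.  Then `R ≤ N_G(P)` and there is an
element `x` of order `p` normalizing `R` fixed-point-freely, with `x ∉ N_G(P)`. -/
theorem CE.exists_x (h : CE p G) (P : Sylow p G) (r : ℕ) [Fact r.Prime] (hrp : r ≠ p)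
    (R : Sylow r G) (v : G) (hv1 : v ≠ 1) (hvR : v ∈ (R : Subgroup G))
    (hvP : ∀ z ∈ (P : Subgroup G), v * z = z * v) :
    (∀ a ∈ (R : Subgroup G), ∀ b ∈ (R : Subgroup G), a * b = b * a) ∧
    (∀ w ∈ (R : Subgroup G), w ∈ Subgroup.normalizer ((P : Subgroup G) : Set G)) ∧
    ∃ x : G, x ∈ Subgroup.normalizer ((R : Subgroup G) : Set G) ∧ orderOf x = p ∧
      (∀ n : ℕ, ¬ p ∣ n → ∀ w ∈ (R : Subgroup G), x ^ n * w = w * x ^ n → w = 1) ∧
      x ∉ Subgroup.normalizer ((P : Subgroup G) : Set G) := by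
  have hp : p.Prime := Fact.out
  have hRp : ¬ p ∣ Nat.card (R : Subgroup G) := not_dvd_card_sylow_of_ne hrp R
  have hvp : (orderOf v).Coprime p := coprime_orderOf_of_mem (R : Subgroup G) hRp hvR
  have hRc : IsMulCommutative (R : Subgroup G) := h.ab R hRp
  have hRcomm : ∀ a ∈ (R : Subgroup G), ∀ b ∈ (R : Subgroup G), a * b = b * a :=
    fun a ha b hb => congrArg (fun t : (R : Subgroup G) => (t : G))
      (hRc.is_comm.comm ⟨a, ha⟩ ⟨b, hb⟩)
  have hRN : ∀ w ∈ (R : Subgroup G), w ∈ Subgroup.normalizer ((P : Subgroup G) : Set G) :=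
    fun w hw => h.mem_normalizer_of_commute_central P hv1 hvp hvP (hRcomm w hw v hvR)
  have hRne : (R : Subgroup G) ≠ ⊥ := fun hb => hv1 (Subgroup.mem_bot.mp (hb ▸ hvR))
  obtain ⟨x, hxR, hox, hfp⟩ := h.exists_fpf_prime r hrp R hRne
  refine ⟨hRcomm, hRN, x, hxR, hox, hfp, ?_⟩
  have hxp : x ^ p ^ 1 = 1 := by rw [pow_one, ← hox]; exact pow_orderOf_eq_one x
  intro hxN
  have hxP : x ∈ (P : Subgroup G) := mem_sylow_of_normalizer P x hxN 1 hxp
  apply hv1
  apply hfp 1 (by rw [Nat.dvd_one]; exact hp.ne_one) v hvR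
  rw [pow_one]
  have hc1 : x * v * x⁻¹ * v⁻¹ ∈ (R : Subgroup G) :=
    Subgroup.mul_mem _ (conj_mem_of_mem_normalizer _ hxR hvR) (Subgroup.inv_mem _ hvR)
  have hc2 : x * v * x⁻¹ * v⁻¹ ∈ (P : Subgroup G) := by
    have e : x * v * x⁻¹ * v⁻¹ = x * (v * x⁻¹ * v⁻¹) := by group
    rw [e]
    exact Subgroup.mul_mem _ hxP
      (conj_mem_of_mem_normalizer _ (hRN v hvR) (Subgroup.inv_mem _ hxP))
  obtain ⟨k, hk⟩ := exists_pow_of_mem_sylow P hc2
  have hc3 := eq_one_of_coprime_of_pow (coprime_orderOf_of_mem (R : Subgroup G) hRp hc1) k hk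
  exact mul_inv_eq_iff_eq_mul.mp (mul_inv_eq_one.mp hc3)

/-- A `p'`-element of prime order `r` centralizing `P` forces `r = 2` and `p = 3`. -/
theorem CE.two_three (h : CE p G) (P : Sylow p G) (r : ℕ) (hr : r.Prime) (hrp : r ≠ p) (v : G)
    (hv : orderOf v = r) (hvP : ∀ z ∈ (P : Subgroup G), v * z = z * v) : r = 2 ∧ p = 3 := by
  classical
  have hp : p.Prime := Fact.out
  have : Fact r.Prime := ⟨hr⟩
  have hv1 : v ≠ 1 := by
    rintro rfl
    rw [orderOf_one] at hv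
    exact hr.ne_one hv.symm
  have hvp : (orderOf v).Coprime p := by rw [hv]; exact (Nat.coprime_primes hr hp).mpr hrp
  have hZ : IsPGroup r (Subgroup.zpowers v) :=
    IsPGroup.of_card (n := 1) (by rw [Nat.card_zpowers, hv, pow_one])
  obtain ⟨R, hR⟩ := hZ.exists_le_sylow
  have hvR : v ∈ (R : Subgroup G) := hR (Subgroup.mem_zpowers v)
  have hRp : ¬ p ∣ Nat.card (R : Subgroup G) := not_dvd_card_sylow_of_ne hrp R
  obtain ⟨hRcomm, hRN, x, hxR, hox, hfp, hxN⟩ := h.exists_x P r hrp R v hv1 hvR hvP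
  have hxp : x ^ p ^ 1 = 1 := by rw [pow_one, ← hox]; exact pow_orderOf_eq_one x
  have hfp1 : ∀ w ∈ (R : Subgroup G), x * w = w * x → w = 1 := fun w hw hc =>
    hfp 1 (by rw [Nat.dvd_one]; exact hp.ne_one) w hw (by simpa using hc)
  obtain ⟨y0, hy0P, hoy0⟩ := h.exists_orderOf_eq P
  have hy01 : y0 ≠ 1 := by
    rintro rfl
    rw [orderOf_one] at hoy0
    exact hp.ne_one hoy0.symm
  let Ω : Subgroup G :=
    { carrier := {w | w ∈ (R : Subgroup G) ∧ w ^ r = 1}
      mul_mem' := fun {a b} ha hb => ⟨Subgroup.mul_mem _ ha.1 hb.1, by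
        rw [(show Commute a b from hRcomm a ha.1 b hb.1).mul_pow, ha.2, hb.2, one_mul]⟩
      one_mem' := ⟨Subgroup.one_mem _, one_pow r⟩
      inv_mem' := fun {a} ha => ⟨Subgroup.inv_mem _ ha.1, by rw [inv_pow, ha.2, inv_one]⟩ }
  have hΩmem : ∀ w, w ∈ Ω ↔ w ∈ (R : Subgroup G) ∧ w ^ r = 1 := fun w => Iff.rfl
  have hΩR : Ω ≤ (R : Subgroup G) := fun w hw => ((hΩmem w).mp hw).1
  have hvΩ : v ∈ Ω := (hΩmem v).mpr ⟨hvR, by rw [← hv]; exact pow_orderOf_eq_one v⟩
  have hxΩ : ∀ w ∈ Ω, x * w * x⁻¹ ∈ Ω := fun w hw =>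
    (hΩmem _).mpr ⟨conj_mem_of_mem_normalizer _ hxR ((hΩmem w).mp hw).1, by
      rw [conj_pow, ((hΩmem w).mp hw).2]; simp⟩
  let Z : Finset (ZMod p) := (Polynomial.nthRoots r (1 : ZMod p)).toFinset
  have hZcard : Z.card ≤ r :=
    (Multiset.toFinset_card_le _).trans (Polynomial.card_nthRoots r 1)
  let Tr : Finset G := Z.image (fun ζ => y0 ^ ζ.val)
  have hTr : Tr.card ≤ r := Finset.card_image_le.trans hZcard
  let φ : G → G := fun a => a * y0 * a⁻¹
  have hφ : ∀ a ∈ Ω, ∃ k : ℕ, φ a = y0 ^ k ∧ ((k : ZMod p)) ^ r = 1 := by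
    intro a ha
    have haN := hRN a (hΩR ha)
    have h1 : φ a ∈ Subgroup.zpowers y0 := by
      apply mem_zpowers_of_pow_orderOf (P : Subgroup G) (h.cyc P) hy0P
        (conj_mem_of_mem_normalizer _ haN hy0P)
      rw [conj_pow, pow_orderOf_eq_one]
      simp
    obtain ⟨k, -, hk⟩ := Finset.mem_image.mp
      ((isOfFinOrder_of_finite y0).mem_zpowers_iff_mem_range_orderOf.mp h1)
    have hk' : a * y0 * a⁻¹ = y0 ^ k := hk.symm
    refine ⟨k, hk', ?_⟩
    have h2 := Cfsg.Agent.Lib.Helper67.conj_pow_eq y0 a k hk' r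
    rw [((hΩmem a).mp ha).2] at h2
    have h3 : y0 ^ (k ^ r) = y0 ^ 1 := by
      rw [pow_one, ← h2]
      simp
    have h4 : k ^ r ≡ 1 [MOD p] := by
      rw [← hoy0]
      exact pow_eq_pow_iff_modEq.mp h3
    have h5 := (ZMod.natCast_eq_natCast_iff _ _ _).mpr h4
    push_cast at h5
    exact h5
  have hφTr : ∀ a ∈ Ω, φ a ∈ Tr := by
    intro a ha
    obtain ⟨k, hk, hkr⟩ := hφ a ha
    apply Finset.mem_image.mpr
    refine ⟨(k : ZMod p), ?_, ?_⟩
    · rw [Multiset.mem_toFinset, Polynomial.mem_nthRoots hr.pos]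
      exact hkr
    · rw [hk, ZMod.val_natCast]
      conv_lhs => rw [← hoy0]
      exact pow_mod_orderOf y0 k
  have hcl2 : ∀ a ∈ Ω, ∀ a' ∈ Ω, φ a = φ a' →
      ∀ z ∈ (P : Subgroup G), (a'⁻¹ * a) * z = z * (a'⁻¹ * a) := by
    intro a ha a' ha' hφaa
    have htR : a'⁻¹ * a ∈ (R : Subgroup G) :=
      Subgroup.mul_mem _ (Subgroup.inv_mem _ (hΩR ha')) (hΩR ha)
    have htN := hRN _ htR
    have hty : (a'⁻¹ * a) * y0 = y0 * (a'⁻¹ * a) := by
      have hφ' : a * y0 * a⁻¹ = a' * y0 * a'⁻¹ := hφaa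
      calc a'⁻¹ * a * y0 = a'⁻¹ * (a * y0 * a⁻¹) * a := by group
        _ = a'⁻¹ * (a' * y0 * a'⁻¹) * a := by rw [hφ']
        _ = y0 * (a'⁻¹ * a) := by group
    exact commute_of_commute_ne_one (P : Subgroup G) P.isPGroup' (h.cyc P) _
      (fun w hw => conj_mem_of_mem_normalizer _ htN hw)
      (coprime_orderOf_of_mem (R : Subgroup G) hRp htR) y0 hy0P hy01 hty
  have := Fintype.ofFinite Ω
  let Ωf : Finset G := (Finset.univ : Finset ↥Ω).image (fun w : ↥Ω => (w : G))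
  have hΩf : ∀ a, a ∈ Ωf ↔ a ∈ Ω := by
    intro a
    constructor
    · intro ha
      obtain ⟨w, -, rfl⟩ := Finset.mem_image.mp ha
      exact w.2
    · intro ha
      exact Finset.mem_image.mpr ⟨⟨a, ha⟩, Finset.mem_univ _, rfl⟩
  have hΩfcard : Ωf.card = Nat.card Ω := by
    rw [Finset.card_image_of_injective _ Subtype.val_injective, Finset.card_univ,
      Nat.card_eq_fintype_card]
  let T0 : Finset G := Ωf.filter (fun w => ∀ z ∈ (P : Subgroup G), w * z = z * w)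
  have hT0 : T0.card ≤ r := by
    refine le_trans ?_ hTr
    apply Finset.card_le_card_of_injOn (fun t => φ (x * t * x⁻¹))
    · intro t ht
      have ht' := Finset.mem_filter.mp (Finset.mem_coe.mp ht)
      exact Finset.mem_coe.mpr (hφTr _ (hxΩ t ((hΩf t).mp ht'.1)))
    · intro t ht t' ht' heq
      have ht1 := Finset.mem_filter.mp (Finset.mem_coe.mp ht)
      have ht1' := Finset.mem_filter.mp (Finset.mem_coe.mp ht')
      have htΩ := (hΩf t).mp ht1.1
      have htΩ' := (hΩf t').mp ht1'.1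
      have h1 := hcl2 _ (hxΩ t htΩ) _ (hxΩ t' htΩ') heq
      have e : (x * t' * x⁻¹)⁻¹ * (x * t * x⁻¹) = x * (t'⁻¹ * t) * x⁻¹ := by group
      rw [e] at h1
      by_contra hne
      have hne' : t'⁻¹ * t ≠ 1 := fun h0 => hne (inv_mul_eq_one.mp h0).symm
      apply hxN
      have htt : t'⁻¹ * t ∈ (R : Subgroup G) :=
        Subgroup.mul_mem _ (Subgroup.inv_mem _ (hΩR htΩ')) (hΩR htΩ)
      apply h.mem_normalizer_of_conj_central P hne'
        (coprime_orderOf_of_mem (R : Subgroup G) hRp htt) ?_ h1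
      intro z hz
      have c1 := ht1.2 z hz
      have c2 := ht1'.2 z hz
      have c3 : t'⁻¹ * z = z * t'⁻¹ := by
        have := congrArg (fun s => t'⁻¹ * s * t'⁻¹) c2
        simp only [mul_assoc, inv_mul_cancel_left, mul_inv_cancel, mul_one] at this
        exact this.symm
      rw [mul_assoc, c1, ← mul_assoc, c3, mul_assoc]
  have hΩcard : Nat.card Ω ≤ r * r := by
    rw [← hΩfcard]
    have hfib : ∀ b ∈ Ωf.image φ, (Ωf.filter (fun a => φ a = b)).card ≤ r := by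
      intro b hb
      obtain ⟨a0, ha0, rfl⟩ := Finset.mem_image.mp hb
      refine le_trans ?_ hT0
      apply Finset.card_le_card_of_injOn (fun a => a0⁻¹ * a)
      · intro a ha
        have ha' := Finset.mem_filter.mp (Finset.mem_coe.mp ha)
        have haΩ := (hΩf a).mp ha'.1
        have ha0Ω := (hΩf a0).mp ha0
        apply Finset.mem_coe.mpr
        rw [Finset.mem_filter]
        exact ⟨(hΩf _).mpr (Ω.mul_mem (Ω.inv_mem ha0Ω) haΩ), hcl2 a haΩ a0 ha0Ω ha'.2⟩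
      · intro a _ a' _ heq
        exact mul_left_cancel heq
    have h1 := Finset.card_le_mul_card_image Ωf r hfib
    have h2 : (Ωf.image φ).card ≤ r :=
      (Finset.card_le_card (fun b hb => by
        obtain ⟨a, ha, rfl⟩ := Finset.mem_image.mp hb
        exact hφTr a ((hΩf a).mp ha))).trans hTr
    exact h1.trans (Nat.mul_le_mul_left r h2)
  have hΩp : IsPGroup r Ω := R.isPGroup'.to_le hΩR
  obtain ⟨j, hj⟩ := IsPGroup.iff_card.mp hΩp
  have hj1 : 1 ≤ j := by
    by_contra hlt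
    have hj0 : j = 0 := by omega
    rw [hj0, pow_zero] at hj
    have hbot := Subgroup.eq_bot_of_card_eq _ hj
    exact hv1 (Subgroup.mem_bot.mp (hbot ▸ hvΩ))
  have hj2 : j ≤ 2 := by
    rw [hj, ← pow_two] at hΩcard
    exact (Nat.pow_le_pow_iff_right hr.one_lt).mp hΩcard
  have hmod : Nat.card Ω ≡ 1 [MOD p] :=
    card_modEq_one_of_fpf Ω x hxΩ 1 hxp (fun w hw hc => hfp1 w (hΩR hw) hc)
  have hdvd : p ∣ r ^ 2 - 1 := by
    rw [hj] at hmod
    have h1 : p ∣ r ^ j - 1 := (Nat.modEq_iff_dvd' (Nat.one_le_pow _ _ hr.pos)).mp hmod.symm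
    have h2 : r ^ j - 1 ∣ r ^ 2 - 1 := by
      have hj' : j = 1 ∨ j = 2 := by omega
      rcases hj' with rfl | rfl
      · rw [pow_one]
        refine ⟨r + 1, ?_⟩
        have hr1 := hr.one_lt
        have : r ^ 2 = (r - 1) * (r + 1) + 1 := by
          obtain ⟨s, rfl⟩ : ∃ s, r = s + 1 := ⟨r - 1, by omega⟩
          simp only [Nat.add_sub_cancel]
          ring
        omega
      · exact dvd_rfl
    exact h1.trans h2
  have hrdvd : r ∣ p - 1 := by
    have haΩ := hxΩ v hvΩ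
    obtain ⟨k, hk, hkr⟩ := hφ _ haΩ
    have hk1 : (k : ZMod p) ≠ 1 := by
      intro h1
      have h2 : k ≡ 1 [MOD p] := by
        apply (ZMod.natCast_eq_natCast_iff k 1 p).mp
        rw [h1]
        simp
      have h3 : y0 ^ k = y0 ^ 1 := by
        rw [← hoy0] at h2
        exact pow_eq_pow_iff_modEq.mpr h2
      rw [pow_one] at h3
      have h4 : (x * v * x⁻¹) * y0 = y0 * (x * v * x⁻¹) := by
        have h4' : (x * v * x⁻¹) * y0 * (x * v * x⁻¹)⁻¹ = y0 := hk.trans h3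
        exact mul_inv_eq_iff_eq_mul.mp h4'
      have haN := hRN _ (hΩR haΩ)
      have h5 := commute_of_commute_ne_one (P : Subgroup G) P.isPGroup' (h.cyc P) _
        (fun w hw => conj_mem_of_mem_normalizer _ haN hw)
        (coprime_orderOf_of_mem (R : Subgroup G) hRp (hΩR haΩ)) y0 hy0P hy01 h4
      exact hxN (h.mem_normalizer_of_conj_central P hv1 hvp hvP h5)
    have hk0 : (k : ZMod p) ≠ 0 := by
      intro h0
      rw [h0, zero_pow hr.ne_zero] at hkr
      exact zero_ne_one hkr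
    have h6 := ZMod.pow_card_sub_one_eq_one hk0
    by_contra hnd
    have hcop : Nat.Coprime r (p - 1) := (Nat.Prime.coprime_iff_not_dvd hr).mpr hnd
    have h7 := pow_gcd_eq_one.mpr ⟨hkr, h6⟩
    rw [hcop, pow_one] at h7
    exact hk1 h7
  -- arithmetic
  have hp2 := hp.two_le
  have hr2 := hr.two_le
  have hrle : r ≤ p - 1 := Nat.le_of_dvd (by omega) hrdvd
  have hfact : r ^ 2 - 1 = (r - 1) * (r + 1) := by
    obtain ⟨s, rfl⟩ : ∃ s, r = s + 1 := ⟨r - 1, by omega⟩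
    simp only [Nat.add_sub_cancel]
    have : (s + 1) ^ 2 = s * (s + 1 + 1) + 1 := by ring
    omega
  rw [hfact] at hdvd
  rcases hp.dvd_mul.mp hdvd with h1 | h1
  · exfalso
    have := Nat.le_of_dvd (by omega) h1
    omega
  · have hle := Nat.le_of_dvd (by omega) h1
    have hpr : p = r + 1 := by omega
    rcases hr.eq_two_or_odd with h2 | h2
    · exact ⟨h2, by omega⟩
    · exfalso
      have h3 : 2 ∣ p := by omega
      have h4 := (Nat.prime_dvd_prime_iff_eq Nat.prime_two hp).mp h3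
      omega

end Cfsg.Agent.Lib.Helper67.Cyc
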