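import Mathlib
import Cfsg.Agent.Lib.Helper67.CycE

set_option autoImplicit false

namespace Cfsg.Agent.Lib.Helper67.Cyc

variable {G : Type*} [Group G] [Finite G] {p : ℕ} [Fact p.Prime]

/-- The structure of the exceptional configuration: `p = 3`, `C_G(P) = P × ⟨v⟩` with `v` an
involution central in `N_G(P)`, Sylow `2`-subgroups of order `4`, and an involution of `N_G(P)`
acting on `P` without fixed points. -/
theorem CE.struct3 (h : CE p G) (P : Sylow p G) :
    p = 3 ∧ ∃ v : G, orderOf v = 2 ∧ (∀ z ∈ (P : Subgroup G), v * z = z * v) ∧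
      (∀ g ∈ Subgroup.normalizer ((P : Subgroup G) : Set G), g * v = v * g) ∧
      (∀ w : G, (orderOf w).Coprime p → (∀ z ∈ (P : Subgroup G), w * z = z * w) →
        w = 1 ∨ w = v) ∧
      (∀ Q : Sylow 2 G, Nat.card (Q : Subgroup G) = 4) ∧
      ∃ s ∈ Subgroup.normalizer ((P : Subgroup G) : Set G), orderOf s = 2 ∧
        ∀ z ∈ (P : Subgroup G), s * z = z * s → z = 1 := by
  classical
  have hp : p.Prime := Fact.out
  obtain ⟨W, hW1, hW2, hW3, hW4, hW5⟩ := h.exists_W P
  obtain ⟨w0, hw01, hw0p, hw0P⟩ := h.exists_central P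
  have hw0W : w0 ∈ W := hW3 w0 hw0p hw0P
  have hWne : W ≠ ⊥ := fun hb => hw01 (Subgroup.mem_bot.mp (hb ▸ hw0W))
  have := Fintype.ofFinite W
  have hprime : ∀ r : ℕ, r.Prime → r ∣ Nat.card W → r = 2 ∧ p = 3 := by
    intro r hr hrW
    have : Fact r.Prime := ⟨hr⟩
    obtain ⟨v, hv⟩ := exists_prime_orderOf_dvd_card (G := ↥W) r
      (by rwa [← Nat.card_eq_fintype_card])
    have hrp : r ≠ p := by
      rintro rfl
      exact hW2 hrW
    exact h.two_three P r hr hrp v.1 (by rw [Subgroup.orderOf_coe]; exact hv) (hW1 v.1 v.2)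
  have hcW1 : Nat.card W ≠ 1 := fun h1 => hWne (Subgroup.eq_bot_of_card_eq _ h1)
  obtain ⟨r0, hr0, hr0W⟩ := Nat.exists_prime_and_dvd hcW1
  obtain ⟨hr02, hp3⟩ := hprime r0 hr0 hr0W
  rw [hr02] at hr0W
  have h2p : (2 : ℕ) ≠ p := by rw [hp3]; norm_num
  have : Fact (Nat.Prime 2) := ⟨Nat.prime_two⟩
  obtain ⟨m, hm⟩ : ∃ m, Nat.card W = 2 ^ m :=
    ⟨_, Nat.eq_prime_pow_of_unique_prime_dvd Nat.card_pos.ne'
      (fun {d} hd hdW => (hprime d hd hdW).1)⟩
  have hWp : IsPGroup 2 W := IsPGroup.of_card hm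
  obtain ⟨R, hWR⟩ := hWp.exists_le_sylow
  obtain ⟨v', hv'⟩ := exists_prime_orderOf_dvd_card (G := ↥W) 2
    (by rwa [← Nat.card_eq_fintype_card])
  have hv : orderOf (v' : G) = 2 := by rw [Subgroup.orderOf_coe]; exact hv'
  have hvW : (v' : G) ∈ W := v'.2
  have hv1 : (v' : G) ≠ 1 := by
    intro h0
    rw [h0, orderOf_one] at hv
    omega
  have hvp : (orderOf (v' : G)).Coprime p := by rw [hv, hp3]; norm_num
  have hvP := hW1 (v' : G) hvW
  have hvR : (v' : G) ∈ (R : Subgroup G) := hWR hvW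
  have hRp : ¬ p ∣ Nat.card (R : Subgroup G) := not_dvd_card_sylow_of_ne h2p R
  obtain ⟨hRcomm, hRN, x, hxR, hox, hfp, hxN⟩ := h.exists_x P 2 h2p R (v' : G) hv1 hvR hvP
  -- the injection `W × W → R`
  have hconjR : ∀ b : W, x * (b : G) * x⁻¹ ∈ (R : Subgroup G) := fun b =>
    conj_mem_of_mem_normalizer _ hxR (hWR b.2)
  let f : W × W → (R : Subgroup G) := fun ab =>
    ⟨(ab.1 : G) * (x * (ab.2 : G) * x⁻¹), Subgroup.mul_mem _ (hWR ab.1.2) (hconjR ab.2)⟩
  have hinj : Function.Injective f := by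
    rintro ⟨a, b⟩ ⟨a', b'⟩ hab
    have h1 : (a : G) * (x * (b : G) * x⁻¹) = (a' : G) * (x * (b' : G) * x⁻¹) :=
      congrArg (fun t : (R : Subgroup G) => (t : G)) hab
    have h2 : (a' : G)⁻¹ * (a : G) = x * ((b' : G) * (b : G)⁻¹) * x⁻¹ := by
      have e1 : (a' : G)⁻¹ * (a : G) =
          (a' : G)⁻¹ * ((a : G) * (x * (b : G) * x⁻¹)) * (x * (b : G) * x⁻¹)⁻¹ := by group
      rw [e1, h1]
      group
    have hb : (b' : G) * (b : G)⁻¹ = 1 := by
      by_contra hne
      apply hxN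
      have htW : (b' : G) * (b : G)⁻¹ ∈ W := W.mul_mem b'.2 (W.inv_mem b.2)
      apply h.mem_normalizer_of_conj_central P hne (coprime_orderOf_of_mem W hW2 htW)
        (hW1 _ htW)
      rw [← h2]
      exact hW1 _ (W.mul_mem (W.inv_mem a'.2) a.2)
    have hb' : b = b' := by
      apply Subtype.ext
      exact (mul_inv_eq_one.mp hb).symm
    have ha : a = a' := by
      apply Subtype.ext
      rw [hb] at h2
      have h3 : (a' : G)⁻¹ * (a : G) = 1 := by rw [h2]; group
      exact (inv_mul_eq_one.mp h3).symm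
    rw [ha, hb']
  have hWW : Nat.card W * Nat.card W ≤ Nat.card (R : Subgroup G) := by
    have h1 := Nat.card_le_card_of_injective f hinj
    rwa [Nat.card_prod] at h1
  have hdvd1 : Nat.card (R : Subgroup G) ∣
      Nat.card (Subgroup.normalizer ((P : Subgroup G) : Set G)) :=
    Subgroup.card_dvd_of_le hRN
  have hdvd2 : Nat.card (P : Subgroup G) ∣
      Nat.card (Subgroup.normalizer ((P : Subgroup G) : Set G)) :=
    Subgroup.card_dvd_of_le Subgroup.le_normalizer
  have hcop : Nat.Coprime (Nat.card (R : Subgroup G)) (Nat.card (P : Subgroup G)) := by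
    obtain ⟨a, ha⟩ := R.isPGroup'.exists_card_eq
    obtain ⟨b, hb⟩ := P.isPGroup'.exists_card_eq
    rw [ha, hb]
    exact Nat.Coprime.pow _ _ ((Nat.coprime_primes Nat.prime_two hp).mpr h2p)
  have hmul : Nat.card (R : Subgroup G) * Nat.card (P : Subgroup G) ≤
      Nat.card (Subgroup.normalizer ((P : Subgroup G) : Set G)) :=
    Nat.le_of_dvd Nat.card_pos (Nat.Coprime.mul_dvd_of_dvd_of_dvd hcop hdvd1 hdvd2)
  have hNle := h.card_normalizer_le P
  have hp1 : p - 1 = 2 := by omega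
  rw [← hW4, hp1] at hNle
  have hRle : Nat.card (R : Subgroup G) ≤ 2 * Nat.card W := by
    have h1 : Nat.card (R : Subgroup G) * Nat.card (P : Subgroup G) ≤
        (2 * Nat.card W) * Nat.card (P : Subgroup G) := by
      calc Nat.card (R : Subgroup G) * Nat.card (P : Subgroup G)
          ≤ Nat.card (Subgroup.normalizer ((P : Subgroup G) : Set G)) := hmul
        _ ≤ 2 * (Nat.card W * Nat.card (P : Subgroup G)) := hNle
        _ = (2 * Nat.card W) * Nat.card (P : Subgroup G) := by ring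
    exact Nat.le_of_mul_le_mul_right h1 Nat.card_pos
  have hWpos : 0 < Nat.card W := Nat.card_pos
  have hWcard : Nat.card W = 2 := by
    have h1 : Nat.card W * Nat.card W ≤ 2 * Nat.card W := hWW.trans hRle
    have h2 : Nat.card W ≤ 2 := Nat.le_of_mul_le_mul_right h1 hWpos
    omega
  have hR4 : Nat.card (R : Subgroup G) = 4 := by
    rw [hWcard] at hWW hRle
    omega
  refine ⟨hp3, (v' : G), hv, hvP, hW5 _ hvW, ?_, ?_, ?_⟩
  · intro w hwp hwP
    have hwW := hW3 w hwp hwP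
    obtain ⟨u0, hu0, huniq⟩ := (Nat.card_eq_two_iff' (1 : W)).mp hWcard
    by_cases hw1 : w = 1
    · left; exact hw1
    · right
      have e1 : (⟨w, hwW⟩ : W) = u0 :=
        huniq _ (fun h0 => hw1 (congrArg (fun t : W => (t : G)) h0))
      have e2 : v' = u0 :=
        huniq _ (fun h0 => hv1 (congrArg (fun t : W => (t : G)) h0))
      exact congrArg (fun t : W => (t : G)) (e1.trans e2.symm)
  · intro Q
    rw [Q.card_eq_multiplicity, ← R.card_eq_multiplicity]
    exact hR4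
  · have hsN := hRN _ (conj_mem_of_mem_normalizer _ hxR hvR)
    refine ⟨x * (v' : G) * x⁻¹, hsN, by rw [orderOf_conj_eq]; exact hv, ?_⟩
    intro z hz hsz
    by_contra hz1
    have h5 := commute_of_commute_ne_one (P : Subgroup G) P.isPGroup' (h.cyc P) _
      (fun w hw => conj_mem_of_mem_normalizer _ hsN hw)
      (by rw [orderOf_conj_eq]; exact hvp) z hz hz1 hsz
    exact hxN (h.mem_normalizer_of_conj_central P hv1 hvp hvP h5)

end Cfsg.Agent.Lib.Helper67.Cyc
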