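import Mathlib
import Cfsg.Agent.Lib.Helper67.CycF
import Cfsg.Agent.Lib.Helper67.Friend

set_option autoImplicit false

namespace Cfsg.Agent.Lib.Helper67.Cyc

variable {G : Type*} [Group G]

theorem mul_self_of_orderOf_two {s : G} (hs : orderOf s = 2) : s * s = 1 := by
  have := pow_orderOf_eq_one s
  rwa [hs, pow_two] at this

theorem inv_eq_self_of_orderOf_two {s : G} (hs : orderOf s = 2) : s⁻¹ = s :=
  inv_eq_of_mul_eq_one_left (mul_self_of_orderOf_two hs)

theorem ne_one_of_orderOf_two {s : G} (hs : orderOf s = 2) : s ≠ 1 := by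
  rintro rfl
  simp at hs

/-- The commuting graph on the involutions of `G`. -/
def invGraph (G : Type*) [Group G] : SimpleGraph {s : G // orderOf s = 2} where
  Adj s t := s ≠ t ∧ s.1 * t.1 = t.1 * s.1
  symm := ⟨fun _ _ h => ⟨h.1.symm, h.2.symm⟩⟩
  loopless := ⟨fun _ h => h.1 rfl⟩

/-- If the Sylow `2`-subgroups have order `4`, then an involution commuting with two distinct
commuting involutions `s`, `t` and different from both is `s * t`. -/
theorem eq_mul_of_commuting_involutions [Finite G]
    (h4 : ∀ Q : Sylow 2 G, Nat.card (Q : Subgroup G) = 4)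
    {s t u : G} (hs : orderOf s = 2) (ht : orderOf t = 2) (hu : orderOf u = 2) (hst : s ≠ t)
    (hc : s * t = t * s) (hus : u * s = s * u) (hut : u * t = t * u) (hne1 : u ≠ s)
    (hne2 : u ≠ t) : u = s * t := by
  classical
  by_contra hne
  have hs2 := mul_self_of_orderOf_two hs
  have ht2 := mul_self_of_orderOf_two ht
  have hu2 := mul_self_of_orderOf_two hu
  have hs1 := ne_one_of_orderOf_two hs
  have ht1 := ne_one_of_orderOf_two ht
  have hu1 := ne_one_of_orderOf_two hu
  have hcomm : ∀ a ∈ ({s, t, u} : Set G), ∀ b ∈ ({s, t, u} : Set G), a * b = b * a := by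
    intro a ha b hb
    simp only [Set.mem_insert_iff, Set.mem_singleton_iff] at ha hb
    rcases ha with ha | ha | ha <;> rcases hb with hb | hb | hb <;> rw [ha, hb]
    · exact hc
    · exact hus.symm
    · exact hc.symm
    · exact hut.symm
    · exact hus
    · exact hut
  have hHc : IsMulCommutative (Subgroup.closure ({s, t, u} : Set G)) :=
    Subgroup.isMulCommutative_closure hcomm
  set H := Subgroup.closure ({s, t, u} : Set G) with hH
  have hsq : ∀ x ∈ H, x * x = 1 := by
    intro x hx
    induction hx using Subgroup.closure_induction with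
    | mem x hx =>
      simp only [Set.mem_insert_iff, Set.mem_singleton_iff] at hx
      rcases hx with rfl | rfl | rfl <;> assumption
    | one => simp
    | mul a b ha hb iha ihb =>
      have hab : a * b = b * a := congrArg Subtype.val (hHc.is_comm.comm ⟨a, ha⟩ ⟨b, hb⟩)
      calc a * b * (a * b) = a * b * (b * a) := by rw [← hab]
        _ = a * (b * b) * a := by group
        _ = 1 := by rw [ihb, mul_one, iha]
    | inv a ha iha =>
      rw [← mul_inv_rev, iha, inv_one]
  have hP : IsPGroup 2 H := by
    intro g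
    refine ⟨1, Subtype.ext ?_⟩
    have := hsq g.1 g.2
    simpa [pow_two] using this
  obtain ⟨Q, hQ⟩ := hP.exists_le_sylow
  have hle : Nat.card H ≤ 4 := by
    rw [← h4 Q]
    exact Subgroup.card_le_of_le hQ
  have hsH : s ∈ H := Subgroup.subset_closure (by simp)
  have htH : t ∈ H := Subgroup.subset_closure (by simp)
  have huH : u ∈ H := Subgroup.subset_closure (by simp)
  have h5 : 5 ≤ Nat.card H := by
    have hsub : ((({1, s, t, s * t, u} : Finset G)) : Set G) ⊆ (H : Set G) := by
      intro x hx
      simp only [Finset.coe_insert, Finset.coe_singleton, Set.mem_insert_iff,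
        Set.mem_singleton_iff] at hx
      rcases hx with rfl | rfl | rfl | rfl | rfl
      · exact H.one_mem
      · exact hsH
      · exact htH
      · exact H.mul_mem hsH htH
      · exact huH
    have hc5 : ({1, s, t, s * t, u} : Finset G).card = 5 := by
      rw [Finset.card_insert_of_notMem, Finset.card_insert_of_notMem,
        Finset.card_insert_of_notMem, Finset.card_insert_of_notMem, Finset.card_singleton]
      · simp only [Finset.mem_singleton]
        exact fun h => hne h.symm
      · simp only [Finset.mem_insert, Finset.mem_singleton, not_or]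
        refine ⟨fun h => hs1 ?_, fun h => hne2 h.symm⟩
        have : s * t = 1 * t := by rw [one_mul]; exact h.symm
        exact mul_right_cancel this
      · simp only [Finset.mem_insert, Finset.mem_singleton, not_or]
        refine ⟨hst, fun h => ht1 ?_, fun h => hne1 h.symm⟩
        have : s * t = s * 1 := by rw [mul_one]; exact h.symm
        exact mul_left_cancel this
      · simp only [Finset.mem_insert, Finset.mem_singleton, not_or]
        refine ⟨fun h => hs1 h.symm, fun h => ht1 h.symm, fun h => hst ?_, fun h => hu1 h.symm⟩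
        have h' : s * t = 1 := h.symm
        have : s * t = t * t := by rw [h', ht2]
        exact mul_right_cancel this
    calc 5 = ({1, s, t, s * t, u} : Finset G).card := hc5.symm
      _ = Set.ncard ((({1, s, t, s * t, u} : Finset G)) : Set G) := (Set.ncard_coe_finset _).symm
      _ ≤ Set.ncard (H : Set G) := Set.ncard_le_ncard hsub (Set.toFinite _)
      _ = Nat.card H := rfl
  omega

variable [Finite G] {p : ℕ} [Fact p.Prime]

/-- Two non-commuting involutions have a unique common commuting involution. -/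
theorem CE.noncomm_case (h : CE p G) {s t : G} (hs : orderOf s = 2) (ht : orderOf t = 2)
    (hc : s * t ≠ t * s) :
    ∃ v : G, orderOf v = 2 ∧ v ≠ s ∧ v ≠ t ∧ s * v = v * s ∧ t * v = v * t ∧
      ∀ u : G, orderOf u = 2 → u * s = s * u → u * t = t * u → u = v := by
  have hp : p.Prime := Fact.out
  have hp3 : p = 3 := (h.struct3 (Classical.arbitrary (Sylow p G))).1
  have hs2 := mul_self_of_orderOf_two hs
  have ht2 := mul_self_of_orderOf_two ht
  have hsi := inv_eq_self_of_orderOf_two hs
  have hti := inv_eq_self_of_orderOf_two ht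
  have h2p : Nat.Coprime 2 p := by rw [hp3]; decide
  set w := s * t with hw
  have hwi : w⁻¹ = t * s := by rw [hw, mul_inv_rev, hsi, hti]
  have hsw : s * w * s⁻¹ = w⁻¹ := by
    rw [hwi, hsi, hw, ← mul_assoc, hs2, one_mul]
  have htw : t * w * t⁻¹ = w⁻¹ := by
    rw [hwi, hti, hw, mul_assoc, mul_assoc, ht2, mul_one]
  have hpw : p ∣ orderOf w := by
    by_contra hnd
    have hB : ¬ p ∣ Nat.card (Subgroup.zpowers w) := by rwa [Nat.card_zpowers]
    have hsN : s ∈ Subgroup.normalizer ((Subgroup.zpowers w : Subgroup G) : Set G) := by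
      apply mem_normalizer_of_forall_conj_mem
      intro z hz
      obtain ⟨k, rfl⟩ := Subgroup.mem_zpowers_iff.mp hz
      rw [← conj_zpow, hsw]
      exact Subgroup.zpow_mem _ (Subgroup.inv_mem _ (Subgroup.mem_zpowers w)) k
    have h1 := commute_of_normalizes h.ab (Subgroup.zpowers w) hB s (by rw [hs]; exact h2p) hsN
      w (Subgroup.mem_zpowers w)
    apply hc
    have h2 : s * (s * t) = s * (t * s) := by
      rw [← mul_assoc s t s]
      exact h1
    exact mul_left_cancel h2
  set y := w ^ (orderOf w / p) with hy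
  have hoy : orderOf y = p := orderOf_pow_orderOf_div (orderOf_pos w).ne' hpw
  have hy1 : y ≠ 1 := by
    intro h1
    rw [h1, orderOf_one] at hoy
    exact hp.one_lt.ne hoy
  have hsy : s * y * s⁻¹ = y⁻¹ := by
    rw [hy, ← conj_pow, hsw, inv_pow]
  have hty : t * y * t⁻¹ = y⁻¹ := by
    rw [hy, ← conj_pow, htw, inv_pow]
  have hZ : IsPGroup p (Subgroup.zpowers y) :=
    IsPGroup.of_card (n := 1) (by rw [Nat.card_zpowers, hoy, pow_one])
  obtain ⟨P, hP⟩ := hZ.exists_le_sylow
  have hyP : y ∈ (P : Subgroup G) := hP (Subgroup.mem_zpowers y)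
  have hsN := h.mem_normalizer_of_invert P hyP hy1 hsy
  have htN := h.mem_normalizer_of_invert P hyP hy1 hty
  obtain ⟨-, v, hv2, hvP, hvN, hvu, -, -⟩ := h.struct3 P
  have hyy : y ≠ y⁻¹ := by
    intro hyy
    have h2 : y ^ 2 = 1 := by
      rw [pow_two]
      nth_rewrite 2 [hyy]
      exact mul_inv_cancel y
    have h3 := orderOf_dvd_of_pow_eq_one h2
    rw [hoy, hp3] at h3
    omega
  have hne : ∀ g : G, g * y * g⁻¹ = y⁻¹ → v ≠ g := by
    rintro g hg rfl
    apply hyy
    rw [← hg, hvP y hyP, mul_inv_cancel_right]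
  refine ⟨v, hv2, hne s hsy, hne t hty, hvN s hsN, hvN t htN, ?_⟩
  intro u hu hus hut
  have huw : u * w = w * u := by
    rw [hw, ← mul_assoc, hus, mul_assoc, hut, mul_assoc]
  have huy : u * y = y * u := by
    have : Commute u w := huw
    exact this.pow_right _
  have hall := h.commute_of_commute P hyP hy1 (by rw [hu]; exact h2p) huy
  rcases hvu u (by rw [hu]; exact h2p) hall with h1 | h1
  · exact absurd h1 (ne_one_of_orderOf_two hu)
  · exact h1

theorem CE.friendship (h : CE p G) [Fintype {s : G // orderOf s = 2}] :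
    FS.Friendship (invGraph G) := by
  classical
  intro a b hab
  obtain ⟨-, v0, -, -, -, -, h4, -⟩ := h.struct3 (Classical.arbitrary (Sylow p G))
  refine Fintype.card_eq_one_iff.mpr ?_
  by_cases hc : a.1 * b.1 = b.1 * a.1
  · have hab' : a.1 ≠ b.1 := fun h => hab (Subtype.ext h)
    have ha1 := ne_one_of_orderOf_two a.2
    have hb1 := ne_one_of_orderOf_two b.2
    have ha2 := mul_self_of_orderOf_two a.2
    have hb2 := mul_self_of_orderOf_two b.2
    have ho : orderOf (a.1 * b.1) = 2 := by
      apply orderOf_eq_prime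
      · rw [pow_two]
        calc a.1 * b.1 * (a.1 * b.1) = a.1 * b.1 * (b.1 * a.1) := by rw [hc]
          _ = a.1 * (b.1 * b.1) * a.1 := by group
          _ = 1 := by rw [hb2, mul_one, ha2]
      · intro h1
        apply hab'
        have : a.1 * b.1 = b.1 * b.1 := by rw [h1, hb2]
        exact mul_right_cancel this
    have hn : (⟨a.1 * b.1, ho⟩ : {s : G // orderOf s = 2}) ∈
        (invGraph G).commonNeighbors a b := by
      rw [SimpleGraph.mem_commonNeighbors]
      refine ⟨⟨fun h => hb1 ?_, ?_⟩, ⟨fun h => ha1 ?_, ?_⟩⟩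
      · have h' : a.1 = a.1 * b.1 := congrArg Subtype.val h
        have : a.1 * 1 = a.1 * b.1 := by rw [mul_one]; exact h'
        exact (mul_left_cancel this).symm
      · show a.1 * (a.1 * b.1) = a.1 * b.1 * a.1
        rw [mul_assoc, hc]
      · have h' : b.1 = a.1 * b.1 := congrArg Subtype.val h
        have : 1 * b.1 = a.1 * b.1 := by rw [one_mul]; exact h'
        exact (mul_right_cancel this).symm
      · show b.1 * (a.1 * b.1) = a.1 * b.1 * b.1
        rw [← mul_assoc, hc]
    refine ⟨⟨_, hn⟩, ?_⟩
    rintro ⟨u, hu⟩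
    rw [SimpleGraph.mem_commonNeighbors] at hu
    obtain ⟨⟨hau, hau'⟩, ⟨hbu, hbu'⟩⟩ := hu
    apply Subtype.ext
    apply Subtype.ext
    show u.1 = a.1 * b.1
    exact eq_mul_of_commuting_involutions h4 a.2 b.2 u.2 hab' hc hau'.symm hbu'.symm
      (fun h => hau (Subtype.ext h.symm)) (fun h => hbu (Subtype.ext h.symm))
  · obtain ⟨v, hv2, hva, hvb, hav, hbv, huniq⟩ := h.noncomm_case a.2 b.2 hc
    have hn : (⟨v, hv2⟩ : {s : G // orderOf s = 2}) ∈ (invGraph G).commonNeighbors a b := by
      rw [SimpleGraph.mem_commonNeighbors]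
      refine ⟨⟨fun h => hva ?_, hav⟩, ⟨fun h => hvb ?_, hbv⟩⟩
      · exact (congrArg Subtype.val h).symm
      · exact (congrArg Subtype.val h).symm
    refine ⟨⟨_, hn⟩, ?_⟩
    rintro ⟨u, hu⟩
    rw [SimpleGraph.mem_commonNeighbors] at hu
    obtain ⟨⟨hau, hau'⟩, ⟨hbu, hbu'⟩⟩ := hu
    apply Subtype.ext
    apply Subtype.ext
    show u.1 = v
    exact huniq u.1 u.2 hau'.symm hbu'.symm

/-- The minimal counterexample configuration is contradictory. -/
theorem CE.false (h : CE p G) : False := by
  classical
  have hp : p.Prime := Fact.out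
  let P0 : Sylow p G := Classical.arbitrary _
  obtain ⟨hp3, v0, -, -, -, -, h4, s0, hs0N, hs02, hs0fix⟩ := h.struct3 P0
  have : Fintype {s : G // orderOf s = 2} := Fintype.ofFinite _
  have : Nonempty {s : G // orderOf s = 2} := ⟨⟨s0, hs02⟩⟩
  obtain ⟨s1, hs1⟩ := FS.friendship_theorem h.friendship
  have hcomm : ∀ t : G, orderOf t = 2 → s1.1 * t = t * s1.1 := by
    intro t ht
    by_cases hst : s1 = ⟨t, ht⟩
    · have : s1.1 = t := congrArg Subtype.val hst
      rw [this]
    · exact (hs1 ⟨t, ht⟩ hst).2
  set J := Subgroup.normalClosure {g : G | orderOf g = 2} with hJ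
  have hJle : J ≤ Subgroup.centralizer ({s1.1} : Set G) := by
    rw [hJ, Subgroup.normalClosure]
    rw [Subgroup.closure_le]
    intro x hx
    rw [Group.mem_conjugatesOfSet_iff] at hx
    obtain ⟨b, hb, hbx⟩ := hx
    have hox : orderOf x = 2 := by
      obtain ⟨c, hc⟩ := isConj_iff.mp hbx
      rw [← hc, orderOf_conj_eq]
      exact hb
    rw [SetLike.mem_coe, Subgroup.mem_centralizer_iff]
    intro y hy
    rw [Set.mem_singleton_iff] at hy
    rw [hy]
    exact hcomm x hox
  have hs0J : s0 ∈ J := Subgroup.subset_normalClosure hs02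
  have hJn : J.Normal := Subgroup.normalClosure_normal
  have hP0J : (P0 : Subgroup G) ≤ J := by
    apply le_of_fpf (P0 : Subgroup G) J s0
      (fun z hz => conj_mem_of_mem_normalizer _ hs0N hz) hs0fix hs0J
    intro z hz
    exact hJn.conj_mem _ (J.inv_mem hs0J) z
  have hJtop : J = ⊤ := h.eq_top_of_normal J hJn P0 hP0J
  have hcen : ∀ g : G, g * s1.1 = s1.1 * g := by
    intro g
    have hg : g ∈ J := by rw [hJtop]; exact Subgroup.mem_top g
    have := hJle hg
    rw [Subgroup.mem_centralizer_iff] at this
    exact (this s1.1 (Set.mem_singleton _)).symm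
  have hZ : IsPGroup 2 (Subgroup.zpowers s1.1) :=
    IsPGroup.of_card (n := 1) (by rw [Nat.card_zpowers, s1.2, pow_one])
  obtain ⟨R, hR⟩ := hZ.exists_le_sylow
  have h2p : (2 : ℕ) ≠ p := by rw [hp3]; decide
  have := h.eq_one_of_central 2 h2p R (hR (Subgroup.mem_zpowers s1.1)) (fun g _ => hcen g)
  exact ne_one_of_orderOf_two s1.2 this

end Cfsg.Agent.Lib.Helper67.Cyc
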