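import Mathlib
import Cfsg.Agent.Lib.Helper67.CycH
import Cfsg.Agent.Lib.Helper67.SylowLemmas

set_option autoImplicit false

namespace Cfsg.Agent.Lib.Helper67.Cyc

variable {G : Type*} [Group G]

/-- If `H ≤ K` and `|K| ≤ 2 |H|`, the product of two elements of `K` outside `H` lies in `H`. -/
theorem mul_mem_of_card_le_two_mul [Finite G] (H K : Subgroup G) (hHK : H ≤ K)
    (hc : Nat.card K ≤ 2 * Nat.card H) {a b : G} (ha : a ∈ K) (hb : b ∈ K) (haH : a ∉ H)
    (hbH : b ∉ H) : a * b ∈ H := by
  have h1 : Nat.card (H.subgroupOf K) = Nat.card H :=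
    Nat.card_congr (Subgroup.subgroupOfEquivOfLe hHK).toEquiv
  have h2 := (H.subgroupOf K).card_mul_index
  rw [h1] at h2
  have hpos : 0 < Nat.card H := Nat.card_pos
  have h3 : (H.subgroupOf K).index ≤ 2 := by
    by_contra hcon
    have hcon' : 3 ≤ (H.subgroupOf K).index := by omega
    have : Nat.card H * 3 ≤ Nat.card H * (H.subgroupOf K).index := Nat.mul_le_mul_left _ hcon'
    omega
  have h4 : (H.subgroupOf K).index ≠ 0 := Subgroup.index_ne_zero_of_finite
  have h5 : (H.subgroupOf K).index ≠ 1 := by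
    intro h
    rw [Subgroup.index_eq_one] at h
    apply haH
    have : (⟨a, ha⟩ : K) ∈ H.subgroupOf K := by rw [h]; exact Subgroup.mem_top _
    exact Subgroup.mem_subgroupOf.mp this
  have h6 : (H.subgroupOf K).index = 2 := by omega
  have h7 := Subgroup.mul_mem_iff_of_index_two h6 (a := (⟨a, ha⟩ : K)) (b := ⟨b, hb⟩)
  have h8 : (⟨a, ha⟩ : K) * ⟨b, hb⟩ ∈ H.subgroupOf K := by
    rw [h7]
    constructor
    · intro h; exact absurd (Subgroup.mem_subgroupOf.mp h) haH
    · intro h; exact absurd (Subgroup.mem_subgroupOf.mp h) hbH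
  exact Subgroup.mem_subgroupOf.mp h8

/-- The commuting graph on involutions is a friendship graph as soon as the Sylow
`2`-subgroups have order `4` and two non-commuting involutions commute with exactly one common
involution. -/
theorem friendship_of_unique [Finite G] (h4 : ∀ Q : Sylow 2 G, Nat.card (Q : Subgroup G) = 4)
    (hnc : ∀ s t : G, orderOf s = 2 → orderOf t = 2 → s * t ≠ t * s →
      ∃ v : G, orderOf v = 2 ∧ v ≠ s ∧ v ≠ t ∧ s * v = v * s ∧ t * v = v * t ∧
        ∀ u : G, orderOf u = 2 → u * s = s * u → u * t = t * u → u = v)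
    [Fintype {s : G // orderOf s = 2}] : FS.Friendship (invGraph G) := by
  classical
  intro a b hab
  refine Fintype.card_eq_one_iff.mpr ?_
  by_cases hc : a.1 * b.1 = b.1 * a.1
  · have hab' : a.1 ≠ b.1 := fun h => hab (Subtype.ext h)
    have ha1 := ne_one_of_orderOf_two a.2
    have hb1 := ne_one_of_orderOf_two b.2
    have ha2 := mul_self_of_orderOf_two a.2
    have hb2 := mul_self_of_orderOf_two b.2
    have ho : orderOf (a.1 * b.1) = 2 := by
      apply orderOf_eq_prime
      · rw [pow_two]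
        calc a.1 * b.1 * (a.1 * b.1) = a.1 * b.1 * (b.1 * a.1) := by rw [hc]
          _ = a.1 * (b.1 * b.1) * a.1 := by group
          _ = 1 := by rw [hb2, mul_one, ha2]
      · intro h1
        apply hab'
        have : a.1 * b.1 = b.1 * b.1 := by rw [h1, hb2]
        exact mul_right_cancel this
    have hn : (⟨a.1 * b.1, ho⟩ : {s : G // orderOf s = 2}) ∈
        (invGraph G).commonNeighbors a b := by
      rw [SimpleGraph.mem_commonNeighbors]
      refine ⟨⟨fun h => hb1 ?_, ?_⟩, ⟨fun h => ha1 ?_, ?_⟩⟩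
      · have h' : a.1 = a.1 * b.1 := congrArg Subtype.val h
        have : a.1 * 1 = a.1 * b.1 := by rw [mul_one]; exact h'
        exact (mul_left_cancel this).symm
      · show a.1 * (a.1 * b.1) = a.1 * b.1 * a.1
        rw [mul_assoc, hc]
      · have h' : b.1 = a.1 * b.1 := congrArg Subtype.val h
        have : 1 * b.1 = a.1 * b.1 := by rw [one_mul]; exact h'
        exact (mul_right_cancel this).symm
      · show b.1 * (a.1 * b.1) = a.1 * b.1 * b.1
        rw [← mul_assoc, hc]
    refine ⟨⟨_, hn⟩, ?_⟩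
    rintro ⟨u, hu⟩
    rw [SimpleGraph.mem_commonNeighbors] at hu
    obtain ⟨⟨hau, hau'⟩, ⟨hbu, hbu'⟩⟩ := hu
    apply Subtype.ext
    apply Subtype.ext
    show u.1 = a.1 * b.1
    exact eq_mul_of_commuting_involutions h4 a.2 b.2 u.2 hab' hc hau'.symm hbu'.symm
      (fun h => hau (Subtype.ext h.symm)) (fun h => hbu (Subtype.ext h.symm))
  · obtain ⟨v, hv2, hva, hvb, hav, hbv, huniq⟩ := hnc a.1 b.1 a.2 b.2 hc
    have hn : (⟨v, hv2⟩ : {s : G // orderOf s = 2}) ∈ (invGraph G).commonNeighbors a b := by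
      rw [SimpleGraph.mem_commonNeighbors]
      refine ⟨⟨fun h => hva ?_, hav⟩, ⟨fun h => hvb ?_, hbv⟩⟩
      · exact (congrArg Subtype.val h).symm
      · exact (congrArg Subtype.val h).symm
    refine ⟨⟨_, hn⟩, ?_⟩
    rintro ⟨u, hu⟩
    rw [SimpleGraph.mem_commonNeighbors] at hu
    obtain ⟨⟨hau, hau'⟩, ⟨hbu, hbu'⟩⟩ := hu
    apply Subtype.ext
    apply Subtype.ext
    show u.1 = v
    exact huniq u.1 u.2 hau'.symm hbu'.symm

/-- Under the hypotheses of `friendship_of_unique`, some involution commutes with all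
involutions, hence with the normal subgroup they generate. -/
theorem exists_involution_commuting [Finite G]
    (h4 : ∀ Q : Sylow 2 G, Nat.card (Q : Subgroup G) = 4)
    (hnc : ∀ s t : G, orderOf s = 2 → orderOf t = 2 → s * t ≠ t * s →
      ∃ v : G, orderOf v = 2 ∧ v ≠ s ∧ v ≠ t ∧ s * v = v * s ∧ t * v = v * t ∧
        ∀ u : G, orderOf u = 2 → u * s = s * u → u * t = t * u → u = v)
    (s0 : G) (hs0 : orderOf s0 = 2) :
    ∃ s1 : G, orderOf s1 = 2 ∧
      ∀ g ∈ Subgroup.normalClosure {g : G | orderOf g = 2}, g * s1 = s1 * g := by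
  classical
  have : Fintype {s : G // orderOf s = 2} := Fintype.ofFinite _
  have : Nonempty {s : G // orderOf s = 2} := ⟨⟨s0, hs0⟩⟩
  obtain ⟨s1, hs1⟩ := FS.friendship_theorem (friendship_of_unique h4 hnc)
  have hcomm : ∀ t : G, orderOf t = 2 → s1.1 * t = t * s1.1 := by
    intro t ht
    by_cases hst : s1 = ⟨t, ht⟩
    · have : s1.1 = t := congrArg Subtype.val hst
      rw [this]
    · exact (hs1 ⟨t, ht⟩ hst).2
  refine ⟨s1.1, s1.2, ?_⟩
  have hJle : Subgroup.normalClosure {g : G | orderOf g = 2} ≤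
      Subgroup.centralizer ({s1.1} : Set G) := by
    rw [Subgroup.normalClosure, Subgroup.closure_le]
    intro x hx
    rw [Group.mem_conjugatesOfSet_iff] at hx
    obtain ⟨b, hb, hbx⟩ := hx
    have hox : orderOf x = 2 := by
      obtain ⟨c, hc⟩ := isConj_iff.mp hbx
      rw [← hc, orderOf_conj_eq]
      exact hb
    rw [SetLike.mem_coe, Subgroup.mem_centralizer_iff]
    intro y hy
    rw [Set.mem_singleton_iff] at hy
    rw [hy]
    exact hcomm x hox
  intro g hg
  have := hJle hg
  rw [Subgroup.mem_centralizer_iff] at this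
  exact (this s1.1 (Set.mem_singleton _)).symm

end Cfsg.Agent.Lib.Helper67.Cyc
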