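import Mathlib

set_option autoImplicit false

namespace Cfsg.Agent.Lib.Helper67

/-- Lifting a subgroup of `G ⧸ N` of order prime to `|N|` (Schur–Zassenhaus existence). -/
theorem exists_lift_subgroup {G : Type*} [Group G] [Finite G] (N : Subgroup G) [N.Normal]
    (H' : Subgroup (G ⧸ N)) (hcop : (Nat.card N).Coprime (Nat.card H')) :
    ∃ H : Subgroup G, H.map (QuotientGroup.mk' N) = H' ∧ Nat.card H = Nat.card H' := by
  set π := QuotientGroup.mk' N with hπ
  have hsurj : Function.Surjective π := QuotientGroup.mk'_surjective N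
  set L : Subgroup G := H'.comap π with hL
  have hNL : N ≤ L := by
    intro n hn
    rw [hL, Subgroup.mem_comap]
    have : π n = 1 := (QuotientGroup.eq_one_iff n).mpr hn
    rw [this]; exact H'.one_mem
  have hLmap : L.map π = H' := Subgroup.map_comap_eq_self_of_surjective hsurj H'
  have hidx : (N.subgroupOf L).index = Nat.card H' := by
    have h1 : N.relIndex L = Nat.card (L.map π) := by
      rw [← Subgroup.relIndex_ker, hπ, QuotientGroup.ker_mk']
    rw [hLmap] at h1
    exact h1
  have hcardN : Nat.card (N.subgroupOf L) = Nat.card N :=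
    Nat.card_congr (Subgroup.subgroupOfEquivOfLe hNL).toEquiv
  have hcop' : (Nat.card (N.subgroupOf L)).Coprime (N.subgroupOf L).index := by
    rw [hidx, hcardN]; exact hcop
  obtain ⟨K, hK⟩ := Subgroup.exists_left_complement'_of_coprime hcop'
  refine ⟨K.map L.subtype, ?_, ?_⟩
  · have h1 : K.map L.subtype ⊔ N = L := by
      have h2 : (K ⊔ N.subgroupOf L).map L.subtype = L := by
        rw [hK.sup_eq_top, ← MonoidHom.range_eq_map, Subgroup.range_subtype]
      rw [Subgroup.map_sup, Subgroup.subgroupOf_map_subtype, inf_eq_left.mpr hNL] at h2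
      exact h2
    have h3 : N.map π = ⊥ := by
      rw [Subgroup.map_eq_bot_iff, hπ, QuotientGroup.ker_mk']
    calc (K.map L.subtype).map π = (K.map L.subtype).map π ⊔ N.map π := by rw [h3, sup_bot_eq]
      _ = (K.map L.subtype ⊔ N).map π := (Subgroup.map_sup _ _ _).symm
      _ = H' := by rw [h1, hLmap]
  · rw [Subgroup.card_map_of_injective (Subgroup.subtype_injective L), ← hidx]
    have h1 := hK.card_mul_card
    have h2 := (N.subgroupOf L).card_mul_index
    have hpos : 0 < Nat.card (N.subgroupOf L) := Nat.card_pos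
    rw [mul_comm] at h1
    exact Nat.eq_of_mul_eq_mul_left hpos (h1.trans h2.symm)

/-- Lifting an element of `G ⧸ N` of order prime to `|N|` to an element whose order divides
the order of the image. -/
theorem exists_lift_orderOf_dvd {G : Type*} [Group G] [Finite G] (N : Subgroup G) [N.Normal]
    (y : G ⧸ N) (hcop : (Nat.card N).Coprime (orderOf y)) :
    ∃ x : G, (QuotientGroup.mk x : G ⧸ N) = y ∧ orderOf x ∣ orderOf y := by
  have hcop' : (Nat.card N).Coprime (Nat.card (Subgroup.zpowers y)) := by
    rw [Nat.card_zpowers]; exact hcop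
  obtain ⟨H, hH, hcard⟩ := exists_lift_subgroup N (Subgroup.zpowers y) hcop'
  have hy : y ∈ H.map (QuotientGroup.mk' N) := by rw [hH]; exact Subgroup.mem_zpowers y
  obtain ⟨x, hxH, hx⟩ := Subgroup.mem_map.mp hy
  refine ⟨x, hx, ?_⟩
  have := orderOf_dvd_natCard (⟨x, hxH⟩ : H)
  rwa [Subgroup.orderOf_mk, hcard, Nat.card_zpowers] at this

end Cfsg.Agent.Lib.Helper67
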