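import Mathlib

set_option autoImplicit false

namespace Cfsg.Agent.Lib.Helper67

open scoped IsMulCommutative in
/-- Schur–Zassenhaus conjugacy, abelian normal subgroup, stated inside an ambient group:
if `H₁ ⊔ Z = H₂ ⊔ Z` with `Z` abelian normal and `|H₁|`, `|H₂|` prime to `|Z|`, then `H₂` is a
conjugate of `H₁` by an element of `Z`. -/
theorem sz_conj_abelian {G : Type*} [Group G] [Finite G] (Z : Subgroup G) [Z.Normal]
    (hZ : ∀ a ∈ Z, ∀ b ∈ Z, a * b = b * a) (H₁ H₂ : Subgroup G)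
    (hcop₁ : (Nat.card H₁).Coprime (Nat.card Z)) (hcop₂ : (Nat.card H₂).Coprime (Nat.card Z))
    (hsup : H₁ ⊔ Z = H₂ ⊔ Z) :
    ∃ z ∈ Z, H₂ = H₁.map (MulAut.conj z).toMonoidHom := by
  classical
  have hcomm : IsMulCommutative Z := ⟨⟨fun a b => Subtype.ext (hZ a a.2 b b.2)⟩⟩
  have hdisj : H₂ ⊓ Z = ⊥ := (Subgroup.disjoint_of_coprime_natCard hcop₂).eq_bot
  have hex : ∀ k : H₁, ∃ z : Z, (z : G) * k ∈ H₂ := by
    intro k
    have hk : (k : G) ∈ H₂ ⊔ Z := by rw [← hsup]; exact Subgroup.mem_sup_left k.2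
    obtain ⟨h, hh, z, hz, hzh⟩ := Subgroup.mem_sup_of_normal_left.mp (sup_comm H₂ Z ▸ hk)
    refine ⟨⟨h⁻¹, Z.inv_mem hh⟩, ?_⟩
    show h⁻¹ * (k : G) ∈ H₂
    rw [← hzh]; simpa using hz
  choose c hc using hex
  have huniq : ∀ (k : H₁) (z : Z), (z : G) * k ∈ H₂ → z = c k := by
    intro k z hz
    have h1 : (z : G) * (c k : G)⁻¹ ∈ H₂ := by
      have := H₂.mul_mem hz (H₂.inv_mem (hc k))
      have e : (z : G) * (k : G) * ((c k : G) * (k : G))⁻¹ = (z : G) * (c k : G)⁻¹ := by group
      rwa [e] at this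
    have h2 : (z : G) * (c k : G)⁻¹ ∈ Z := Z.mul_mem z.2 (Z.inv_mem (c k).2)
    have h3 : (z : G) * (c k : G)⁻¹ ∈ H₂ ⊓ Z := ⟨h1, h2⟩
    rw [hdisj, Subgroup.mem_bot] at h3
    exact Subtype.ext (mul_inv_eq_one.mp h3)
  have hcross : ∀ k l : H₁, c (k * l) = c k * MulAut.conjNormal (k : G) (c l) := by
    intro k l
    symm
    apply huniq
    have : ((c k * MulAut.conjNormal (k : G) (c l) : Z) : G) * ((k * l : H₁) : G)
        = ((c k : G) * k) * ((c l : G) * l) := by
      simp only [Subgroup.coe_mul, MulAut.conjNormal_apply]; group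
    rw [this]
    exact H₂.mul_mem (hc k) (hc l)
  have : Fintype H₁ := Fintype.ofFinite _
  set w : Z := ∏ l : H₁, c l with hw
  set m := Fintype.card H₁ with hm
  have hkw : ∀ k : H₁, (c k) ^ m = w * (MulAut.conjNormal (k : G) w)⁻¹ := by
    intro k
    have h1 : MulAut.conjNormal (k : G) w = ∏ l : H₁, ((c k)⁻¹ * c (k * l)) := by
      rw [hw, map_prod]
      apply Finset.prod_congr rfl
      intro l _
      rw [hcross]; simp
    rw [Finset.prod_mul_distrib, Finset.prod_const, Finset.card_univ] at h1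
    have h2 : ∏ l : H₁, c (k * l) = w := Equiv.prod_comp (Equiv.mulLeft k) c
    rw [h2] at h1
    rw [h1, ← hm]
    simp [mul_comm]
  -- m-th roots in Z
  set e : ℤ := Nat.gcdB (Nat.card Z) m with he
  have hroot : ∀ z : Z, (z ^ m) ^ e = z := by
    intro z
    have hcop : Nat.Coprime (Nat.card Z) m := by
      rw [hm, ← Nat.card_eq_fintype_card]; exact hcop₁.symm
    have h1 : (1 : ℤ) = (Nat.card Z : ℤ) * Nat.gcdA (Nat.card Z) m + (m : ℤ) * e := by
      have := Nat.gcd_eq_gcd_ab (Nat.card Z) m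
      rw [hcop.gcd_eq_one] at this
      simpa using this
    have h2 : z ^ ((Nat.card Z : ℤ) * Nat.gcdA (Nat.card Z) m) = 1 := by
      rw [zpow_mul, zpow_natCast, pow_card_eq_one', one_zpow]
    calc (z ^ m) ^ e = z ^ ((m : ℤ) * e) := by rw [← zpow_natCast, ← zpow_mul]
      _ = z ^ ((Nat.card Z : ℤ) * Nat.gcdA (Nat.card Z) m) * z ^ ((m : ℤ) * e) := by
          rw [h2, one_mul]
      _ = z ^ ((Nat.card Z : ℤ) * Nat.gcdA (Nat.card Z) m + (m : ℤ) * e) := (zpow_add _ _ _).symm
      _ = z := by rw [← h1, zpow_one]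
  set v : Z := w ^ e with hv
  have hcv : ∀ k : H₁, c k = v * (MulAut.conjNormal (k : G) v)⁻¹ := by
    intro k
    rw [← hroot (c k), hkw k, mul_zpow, hv, inv_zpow, map_zpow]
  have hkey : ∀ k : H₁, (c k : G) * k = (v : G) * k * (v : G)⁻¹ := by
    intro k
    rw [hcv k]
    simp only [Subgroup.coe_mul, Subgroup.coe_inv, MulAut.conjNormal_apply]; group
  refine ⟨v, v.2, ?_⟩
  ext y
  rw [Subgroup.mem_map]
  constructor
  · intro hy
    have hy' : y ∈ Z ⊔ H₁ := by rw [sup_comm, hsup]; exact Subgroup.mem_sup_left hy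
    obtain ⟨z₁, hz₁, k₁, hk₁, rfl⟩ := Subgroup.mem_sup_of_normal_left.mp hy'
    have := huniq ⟨k₁, hk₁⟩ ⟨z₁, hz₁⟩ hy
    refine ⟨k₁, hk₁, ?_⟩
    have h2 := hkey ⟨k₁, hk₁⟩
    rw [← this] at h2
    simp only [MulEquiv.coe_toMonoidHom, MulAut.conj_apply]
    exact h2.symm
  · rintro ⟨k, hk, rfl⟩
    simp only [MulEquiv.coe_toMonoidHom, MulAut.conj_apply]
    rw [← hkey ⟨k, hk⟩]
    exact hc ⟨k, hk⟩

/-- composing conjugations -/
theorem map_conj_map_conj {G : Type*} [Group G] (H : Subgroup G) (a b : G) :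
    (H.map (MulAut.conj b).toMonoidHom).map (MulAut.conj a).toMonoidHom =
      H.map (MulAut.conj (a * b)).toMonoidHom := by
  rw [Subgroup.map_map]
  congr 1
  ext x
  simp [mul_assoc]

universe u

theorem sz_conj_pgroup_aux (p : ℕ) [Fact p.Prime] : ∀ (n : ℕ) {G : Type u} [Group G] [Finite G]
    (N : Subgroup G) [N.Normal], IsPGroup p N → Nat.card N ≤ n → ∀ (H₁ H₂ : Subgroup G),
    ¬ p ∣ Nat.card H₁ → ¬ p ∣ Nat.card H₂ → H₁ ⊔ N = H₂ ⊔ N →
    ∃ g ∈ N, H₂ = H₁.map (MulAut.conj g).toMonoidHom := by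
  intro n
  induction n with
  | zero =>
    intro G _ _ N _ hN hcard
    exact absurd hcard (by have : 0 < Nat.card N := Nat.card_pos; omega)
  | succ n ih =>
    intro G _ _ N _ hN hcard H₁ H₂ h₁ h₂ hsup
    have hp : p.Prime := Fact.out
    by_cases hbot : N = ⊥
    · refine ⟨1, N.one_mem, ?_⟩
      rw [hbot, sup_bot_eq, sup_bot_eq] at hsup
      rw [← hsup]
      ext x
      simp
    · set Z : Subgroup G := N ⊓ Subgroup.centralizer (N : Set G) with hZ
      have hZN : Z ≤ N := inf_le_left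
      have hZab : ∀ a ∈ Z, ∀ b ∈ Z, a * b = b * a := by
        intro a ha b hb
        exact ((Subgroup.mem_centralizer_iff.mp ha.2) b hb.1).symm
      have hZbot : Z ≠ ⊥ := by
        have hnt : Nontrivial N := (Subgroup.nontrivial_iff_ne_bot N).mpr hbot
        have hc : Nontrivial (Subgroup.center N) := hN.center_nontrivial
        obtain ⟨z, hz⟩ := exists_ne (1 : Subgroup.center N)
        intro hZ'
        apply hz
        have hzZ : ((z : N) : G) ∈ Z := by
          refine ⟨(z : N).2, ?_⟩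
          show ((z : N) : G) ∈ Subgroup.centralizer (N : Set G)
          rw [Subgroup.mem_centralizer_iff]
          intro h hh
          have := (Subgroup.mem_center_iff.mp z.2) ⟨h, hh⟩
          exact congrArg Subtype.val this
        rw [hZ', Subgroup.mem_bot] at hzZ
        apply Subtype.ext
        apply Subtype.ext
        exact hzZ
      set π := QuotientGroup.mk' Z with hπ
      have hsurj : Function.Surjective π := QuotientGroup.mk'_surjective Z
      have hN'n : (N.map π).Normal := Subgroup.Normal.map inferInstance π hsurj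
      have hN'p : IsPGroup p (N.map π) := hN.map π
      have hcard' : Nat.card (N.map π) ≤ n := by
        have h1 : Nat.card (N.map π) = Z.relIndex N := by
          rw [← Subgroup.relIndex_ker, hπ, QuotientGroup.ker_mk']
        have h2 : Nat.card Z * Z.relIndex N = Nat.card N := by
          have := Subgroup.relIndex_mul_relIndex ⊥ Z N bot_le hZN
          rwa [Subgroup.relIndex_bot_left, Subgroup.relIndex_bot_left] at this
        have h3 : 1 < Nat.card Z := Z.one_lt_card_iff_ne_bot.mpr hZbot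
        have h4 : 0 < Nat.card N := Nat.card_pos
        rw [h1]
        have h5 : 0 < Z.relIndex N := by
          rcases Nat.eq_zero_or_pos (Z.relIndex N) with h | h
          · rw [h, mul_zero] at h2; omega
          · exact h
        nlinarith
      have h₁' : ¬ p ∣ Nat.card (H₁.map π) := fun h => h₁ (h.trans (Subgroup.card_map_dvd _ π))
      have h₂' : ¬ p ∣ Nat.card (H₂.map π) := fun h => h₂ (h.trans (Subgroup.card_map_dvd _ π))
      have hsup' : H₁.map π ⊔ N.map π = H₂.map π ⊔ N.map π := by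
        rw [← Subgroup.map_sup, ← Subgroup.map_sup, hsup]
      obtain ⟨g', hg'N, hg'⟩ := ih (N.map π) hN'p hcard' (H₁.map π) (H₂.map π) h₁' h₂' hsup'
      obtain ⟨g, hgN, rfl⟩ := Subgroup.mem_map.mp hg'N
      have hcomm : (H₁.map π).map (MulAut.conj (π g)).toMonoidHom =
          (H₁.map (MulAut.conj g).toMonoidHom).map π := by
        rw [Subgroup.map_map, Subgroup.map_map]
        congr 1
      rw [hcomm] at hg'
      have hsupZ : H₁.map (MulAut.conj g).toMonoidHom ⊔ Z = H₂ ⊔ Z := by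
        have h1 := congrArg (Subgroup.comap π) hg'
        rw [Subgroup.comap_map_eq, Subgroup.comap_map_eq, hπ, QuotientGroup.ker_mk'] at h1
        exact h1.symm
      have hZp : IsPGroup p Z := hN.to_le hZN
      obtain ⟨k, hk⟩ := hZp.exists_card_eq
      have hc₁ : (Nat.card (H₁.map (MulAut.conj g).toMonoidHom)).Coprime (Nat.card Z) := by
        rw [hk]
        apply Nat.Coprime.pow_right
        apply Nat.Coprime.symm
        apply (Nat.Prime.coprime_iff_not_dvd hp).mpr
        exact fun h => h₁ (h.trans (Subgroup.card_map_dvd _ _))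
      have hc₂ : (Nat.card H₂).Coprime (Nat.card Z) := by
        rw [hk]
        apply Nat.Coprime.pow_right
        apply Nat.Coprime.symm
        exact (Nat.Prime.coprime_iff_not_dvd hp).mpr h₂
      obtain ⟨z, hzZ, hz⟩ := sz_conj_abelian Z hZab _ H₂ hc₁ hc₂ hsupZ
      refine ⟨z * g, N.mul_mem (hZN hzZ) hgN, ?_⟩
      rw [hz, map_conj_map_conj]

/-- Schur–Zassenhaus conjugacy for a normal `p`-subgroup `N`, stated inside an ambient group:
two `p'`-subgroups `H₁`, `H₂` with `H₁ ⊔ N = H₂ ⊔ N` are conjugate by an element of `N`. -/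
theorem sz_conj_pgroup {G : Type*} [Group G] [Finite G] {p : ℕ} [Fact p.Prime]
    (N : Subgroup G) [N.Normal] (hN : IsPGroup p N) (H₁ H₂ : Subgroup G)
    (h₁ : ¬ p ∣ Nat.card H₁) (h₂ : ¬ p ∣ Nat.card H₂) (hsup : H₁ ⊔ N = H₂ ⊔ N) :
    ∃ g ∈ N, H₂ = H₁.map (MulAut.conj g).toMonoidHom :=
  sz_conj_pgroup_aux p (Nat.card N) N hN le_rfl H₁ H₂ h₁ h₂ hsup

end Cfsg.Agent.Lib.Helper67
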