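import Mathlib
import Cfsg.Agent.Lib.Helper67.Basic

set_option autoImplicit false

namespace Cfsg.Agent.Lib.Helper67

theorem card_lt_of_lt {G : Type*} [Group G] [Finite G] {H K : Subgroup G} (h : H < K) :
    Nat.card H < Nat.card K := by
  have h1 : Nat.card H = (H : Set G).ncard := rfl
  have h2 : Nat.card K = (K : Set G).ncard := rfl
  rw [h1, h2]
  exact Set.ncard_lt_ncard (SetLike.coe_ssubset_coe.mpr h) (Set.toFinite _)

/-- normalizer growth in `p`-groups, stated in the ambient group -/
theorem exists_mem_normalizer_not_mem {G : Type*} [Group G] [Finite G] {p : ℕ} [Fact p.Prime]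
    (P D : Subgroup G) (hP : IsPGroup p P) (hDP : D < P) :
    ∃ x ∈ P, x ∈ Subgroup.normalizer (D : Set G) ∧ x ∉ D := by
  have hnil : Group.IsNilpotent P := hP.isNilpotent
  have hnc : NormalizerCondition P := Group.normalizerCondition_of_isNilpotent
  have hlt : D.subgroupOf P < ⊤ := by
    rw [lt_top_iff_ne_top, Ne, Subgroup.subgroupOf_eq_top]
    exact not_le_of_gt hDP
  have h2 := hnc _ hlt
  obtain ⟨x, hxn, hxD⟩ := SetLike.exists_of_lt h2
  refine ⟨x, x.2, ?_, ?_⟩
  · rw [← Subgroup.subgroupOf_normalizer_eq hDP.le] at hxn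
    exact hxn
  · exact hxD

universe u

/-- A skeleton for "2-closed" theorems: if a property `Φ` of finite groups (a "bad configuration")
passes up from subgroups and from quotients by normal `2`-subgroups, and holds whenever an involution
inverts a nontrivial element of odd order, then every finite group without `Φ` has a normal
Sylow `2`-subgroup. -/
theorem two_closed_of_inherited (Φ : ∀ (G : Type u) [Group G], Prop)
    (hsub : ∀ (G : Type u) [Group G] [Finite G] (M : Subgroup G), Φ M → Φ G)
    (hquot : ∀ (G : Type u) [Group G] [Finite G] (D : Subgroup G) [D.Normal],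
      IsPGroup 2 D → Φ (G ⧸ D) → Φ G)
    (hinv : ∀ (G : Type u) [Group G] [Finite G] (t x : G), orderOf t = 2 → x ≠ 1 →
      Odd (orderOf x) → t * x * t⁻¹ = x⁻¹ → Φ G) :
    ∀ (n : ℕ) (G : Type u) [Group G] [Finite G], Nat.card G = n → ¬ Φ G →
      ∀ P : Sylow 2 G, (P : Subgroup G).Normal := by
  intro n
  induction n using Nat.strong_induction_on with
  | _ n ih =>
    intro G _ _ hcard hΦ P₀
    by_contra hP₀
    have hex : ∃ pq : Sylow 2 G × Sylow 2 G, pq.1 ≠ pq.2 := by
      by_contra h
      have h' : ∀ pq : Sylow 2 G × Sylow 2 G, pq.1 = pq.2 := fun pq => by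
        by_contra hne
        exact h ⟨pq, hne⟩
      apply hP₀
      rw [← Subgroup.normalizer_eq_top_iff, Subgroup.eq_top_iff']
      intro g
      exact Sylow.smul_eq_iff_mem_normalizer.mp (h' (g • P₀, P₀))
    obtain ⟨pq₀, hpq₀⟩ := hex
    have hne : Nonempty {pq : Sylow 2 G × Sylow 2 G // pq.1 ≠ pq.2} := ⟨⟨pq₀, hpq₀⟩⟩
    obtain ⟨⟨⟨P, Q⟩, hPQ⟩, hmax⟩ := Finite.exists_max
      (fun pq : {pq : Sylow 2 G × Sylow 2 G // pq.1 ≠ pq.2} =>
        Nat.card ((pq.1.1 : Subgroup G) ⊓ (pq.1.2 : Subgroup G) : Subgroup G))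
    have hmax' : ∀ P' Q' : Sylow 2 G, P' ≠ Q' →
        Nat.card ((P' : Subgroup G) ⊓ (Q' : Subgroup G) : Subgroup G) ≤
          Nat.card ((P : Subgroup G) ⊓ (Q : Subgroup G) : Subgroup G) :=
      fun P' Q' h => hmax ⟨(P', Q'), h⟩
    have hPQ' : P ≠ Q := hPQ
    set D : Subgroup G := (P : Subgroup G) ⊓ (Q : Subgroup G) with hD
    have hDP : D < (P : Subgroup G) := by
      refine lt_of_le_of_ne inf_le_left (fun h => hPQ' ?_)
      have hle : (P : Subgroup G) ≤ (Q : Subgroup G) := by rw [← h]; exact inf_le_right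
      exact Sylow.ext (P.is_maximal' Q.isPGroup' hle).symm
    have hDQ : D < (Q : Subgroup G) := by
      refine lt_of_le_of_ne inf_le_right (fun h => hPQ' ?_)
      have hle : (Q : Subgroup G) ≤ (P : Subgroup G) := by rw [← h]; exact inf_le_left
      exact Sylow.ext (Q.is_maximal' P.isPGroup' hle)
    by_cases hDbot : D = ⊥
    · -- all Sylow 2-subgroups intersect trivially
      have hTI : ∀ P' Q' : Sylow 2 G, P' ≠ Q' → (P' : Subgroup G) ⊓ (Q' : Subgroup G) = ⊥ := by
        intro P' Q' h
        have h1 := hmax' P' Q' h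
        rw [hDbot, Subgroup.card_bot] at h1
        exact (Subgroup.card_le_one_iff_eq_bot _).mp h1
      have hinvol : ∀ R : Sylow 2 G, D < (R : Subgroup G) → ∃ t : G, t ∈ (R : Subgroup G) ∧ orderOf t = 2 := by
        intro R hR
        have hRbot : (R : Subgroup G) ≠ ⊥ := by
          rw [hDbot] at hR
          exact (bot_lt_iff_ne_bot.mp hR)
        have hdvd : 2 ∣ Nat.card (R : Subgroup G) := by
          rcases R.isPGroup'.card_eq_or_dvd with h | h
          · exact absurd (Subgroup.card_eq_one.mp h) hRbot
          · exact h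
        obtain ⟨t, ht⟩ := exists_prime_orderOf_dvd_card' 2 hdvd
        exact ⟨t, t.2, (Subgroup.orderOf_coe t).trans ht⟩
      obtain ⟨t, htP, ht⟩ := hinvol P hDP
      obtain ⟨v, hvQ, hv⟩ := hinvol Q hDQ
      have ht1 : t ≠ 1 := fun h => by rw [h, orderOf_one] at ht; omega
      have hv1 : v ≠ 1 := fun h => by rw [h, orderOf_one] at hv; omega
      have htt : t⁻¹ = t := by
        have : t ^ 2 = 1 := by rw [← ht, pow_orderOf_eq_one]
        rw [inv_eq_iff_mul_eq_one, ← pow_two, this]
      have hvv : v⁻¹ = v := by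
        have : v ^ 2 = 1 := by rw [← hv, pow_orderOf_eq_one]
        rw [inv_eq_iff_mul_eq_one, ← pow_two, this]
      set w := t * v with hw
      have hconj : t * w * t⁻¹ = w⁻¹ := by
        rw [hw, mul_inv_rev, hvv, htt]
        have : t * t = 1 := by
          have h2 : t ^ 2 = 1 := by rw [← ht, pow_orderOf_eq_one]
          rwa [pow_two] at h2
        calc t * (t * v) * t = (t * t) * v * t := by group
          _ = v * t := by rw [this, one_mul]
      obtain ⟨a, m, hm, ham⟩ := Nat.exists_eq_two_pow_mul_odd (orderOf_pos w).ne'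
      set x := w ^ (2 ^ a) with hx
      have hxm : x ^ m = 1 := by rw [hx, ← pow_mul, ← ham, pow_orderOf_eq_one]
      have hxodd : Odd (orderOf x) := Odd.of_dvd_nat hm (orderOf_dvd_of_pow_eq_one hxm)
      have hconjx : t * x * t⁻¹ = x⁻¹ := by
        rw [hx, ← conj_pow, hconj, inv_pow]
      by_cases hx1 : x = 1
      · have hwo : ∃ j, orderOf w = 2 ^ j := by
          have : orderOf w ∣ 2 ^ a := orderOf_dvd_of_pow_eq_one hx1
          obtain ⟨j, -, hj⟩ := (Nat.dvd_prime_pow Nat.prime_two).mp this
          exact ⟨j, hj⟩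
        obtain ⟨j, hj⟩ := hwo
        have hpw : IsPGroup 2 (Subgroup.zpowers w) :=
          IsPGroup.of_card (n := j) (by rw [Nat.card_zpowers, hj])
        have hpt : IsPGroup 2 (Subgroup.zpowers t) :=
          IsPGroup.of_card (n := 1) (by rw [Nat.card_zpowers, ht, pow_one])
        have hle : Subgroup.zpowers t ≤ Subgroup.normalizer ((Subgroup.zpowers w : Subgroup G) : Set G) := by
          rw [Subgroup.zpowers_le, mem_normalizer_zpowers_iff, hconj]
          exact Subgroup.inv_mem _ (Subgroup.mem_zpowers w)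
        have hsup : IsPGroup 2 ↥(Subgroup.zpowers t ⊔ Subgroup.zpowers w) :=
          hpt.to_sup_of_normal_right' hpw hle
        obtain ⟨T, hT⟩ := hsup.exists_le_sylow
        have htT : t ∈ (T : Subgroup G) := hT (Subgroup.mem_sup_left (Subgroup.mem_zpowers t))
        have hwT : w ∈ (T : Subgroup G) := hT (Subgroup.mem_sup_right (Subgroup.mem_zpowers w))
        have hvT : v ∈ (T : Subgroup G) := by
          have : v = t⁻¹ * w := by rw [hw]; group
          rw [this]
          exact Subgroup.mul_mem _ (Subgroup.inv_mem _ htT) hwT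
        have hTP : T = P := by
          by_contra hne'
          have := hTI T P hne'
          have h1 : t ∈ (T : Subgroup G) ⊓ (P : Subgroup G) := ⟨htT, htP⟩
          rw [this, Subgroup.mem_bot] at h1
          exact ht1 h1
        have hTQ : T = Q := by
          by_contra hne'
          have := hTI T Q hne'
          have h1 : v ∈ (T : Subgroup G) ⊓ (Q : Subgroup G) := ⟨hvT, hvQ⟩
          rw [this, Subgroup.mem_bot] at h1
          exact hv1 h1
        exact hPQ' (hTP.symm.trans hTQ)
      · exact hΦ (hinv G t x ht hx1 hxodd hconjx)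
    · -- pass to N_G(D)/D
      set M : Subgroup G := Subgroup.normalizer (D : Set G) with hM
      have hDM : D ≤ M := Subgroup.le_normalizer
      have hDp : IsPGroup 2 D := P.isPGroup'.to_le inf_le_left
      have hD'p : IsPGroup 2 (D.subgroupOf M) := hDp.comap_subtype
      have hcardlt : Nat.card (M ⧸ D.subgroupOf M) < n := by
        have h1 : Nat.card (D.subgroupOf M) * (D.subgroupOf M).index = Nat.card M :=
          (D.subgroupOf M).card_mul_index
        have h2 : Nat.card (D.subgroupOf M) = Nat.card D :=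
          Nat.card_congr (Subgroup.subgroupOfEquivOfLe hDM).toEquiv
        have h3 : 1 < Nat.card D := D.one_lt_card_iff_ne_bot.mpr hDbot
        have h4 : Nat.card M ≤ Nat.card G := Subgroup.card_le_card_group M
        have h5 : 0 < Nat.card M := Nat.card_pos
        rw [← Subgroup.index_eq_card]
        rw [h2] at h1
        have h6 : 0 < (D.subgroupOf M).index := by
          rcases Nat.eq_zero_or_pos (D.subgroupOf M).index with h | h
          · rw [h, mul_zero] at h1; omega
          · exact h
        rw [← hcard]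
        nlinarith
      have hΦ' : ¬ Φ (M ⧸ D.subgroupOf M) := fun h =>
        hΦ (hsub G M (hquot M (D.subgroupOf M) hD'p h))
      have IH := ih _ hcardlt (M ⧸ D.subgroupOf M) rfl hΦ'
      obtain ⟨R'⟩ : Nonempty (Sylow 2 (M ⧸ D.subgroupOf M)) := inferInstance
      have hR'n := IH R'
      set R : Subgroup M := (R' : Subgroup (M ⧸ D.subgroupOf M)).comap
        (QuotientGroup.mk' (D.subgroupOf M)) with hR
      have hRp : IsPGroup 2 R := by
        apply R'.isPGroup'.comap_of_ker_isPGroup
        rw [QuotientGroup.ker_mk']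
        exact hD'p
      have hU : ∀ U : Subgroup M, IsPGroup 2 U → U ≤ R := by
        intro U hUp
        obtain ⟨S', hS'⟩ := (hUp.map (QuotientGroup.mk' (D.subgroupOf M))).exists_le_sylow
        have hS'R' : S' = R' := by
          obtain ⟨g, hg⟩ := MulAction.exists_smul_eq (M ⧸ D.subgroupOf M) R' S'
          rw [← hg]
          have := hR'n
          exact Sylow.smul_eq_of_normal
        intro y hy
        rw [hR, Subgroup.mem_comap]
        have h1 := hS' (Subgroup.mem_map_of_mem _ hy)
        rw [hS'R'] at h1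
        exact h1
      have hRGp : IsPGroup 2 (R.map M.subtype) := hRp.map _
      obtain ⟨T, hT⟩ := hRGp.exists_le_sylow
      have hXM : ∀ X : Sylow 2 G, (X : Subgroup G) ⊓ M ≤ (T : Subgroup G) := by
        intro X y hy
        apply hT
        refine Subgroup.mem_map.mpr ⟨⟨y, hy.2⟩, ?_, rfl⟩
        exact hU ((X : Subgroup G).subgroupOf M) X.isPGroup'.comap_subtype
          (Subgroup.mem_subgroupOf.mpr hy.1)
      have hTX : ∀ X : Sylow 2 G, D < (X : Subgroup G) → T = X := by
        intro X hDX
        by_contra hne'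
        have h1 := hmax' T X hne'
        obtain ⟨y, hyX, hyn, hyD⟩ := exists_mem_normalizer_not_mem (X : Subgroup G) D X.isPGroup' hDX
        have hlt : D < (T : Subgroup G) ⊓ (X : Subgroup G) := by
          refine lt_of_le_of_ne (le_inf ?_ hDX.le) ?_
          · exact le_trans (le_inf hDX.le hDM) (hXM X)
          · intro h
            apply hyD
            rw [h]
            exact ⟨hXM X ⟨hyX, hyn⟩, hyX⟩
        have := card_lt_of_lt hlt
        omega
      exact hPQ' ((hTX P hDP).symm.trans (hTX Q hDQ))

end Cfsg.Agent.Lib.Helper67
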