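-- Groups whose Frattini quotient has order p^2: cyclic quotients (helper67).
import Mathlib
import Cfsg.Prelude.Def_Transfer

set_option autoImplicit false

namespace Cfsg.Agent.Lib.Helper67

open Subgroup

/-- If the Frattini subgroup of the finite group `P` has index `p ^ 2` and `N` does not lie in
it, then `N` together with one more element generates `P`. -/
theorem exists_sup_zpowers_eq_top {P : Type*} [Group P] [Finite P] {p : ℕ} [Fact p.Prime]
    (hgen : (frattini P).index = p ^ 2) (N : Subgroup P) (hN : ¬ N ≤ frattini P) :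
    ∃ x : P, N ⊔ zpowers x = ⊤ := by
  have hp : p.Prime := Fact.out
  -- a subgroup strictly above a subgroup has a strictly smaller index
  have hlt : ∀ A B : Subgroup P, A ≤ B → ¬ B ≤ A → B.index ∣ A.index ∧ B.index ≠ A.index := by
    intro A B hAB hBA
    refine ⟨index_dvd_of_le hAB, fun he => hBA ?_⟩
    have h1 := Subgroup.index_mul_card A
    have h2 := Subgroup.index_mul_card B
    have hpos : 0 < B.index := Nat.pos_of_ne_zero index_ne_zero_of_finite
    have hc : Nat.card B = Nat.card A := by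
      rw [← he] at h1
      exact Nat.eq_of_mul_eq_mul_left hpos (h2.trans h1.symm)
    exact (Subgroup.eq_of_le_of_card_ge hAB hc.le).symm.le
  have h1 := hlt (frattini P) (N ⊔ frattini P) le_sup_right (fun h => hN (le_trans le_sup_left h))
  rw [hgen] at h1
  obtain ⟨k, hk, hke⟩ := (Nat.dvd_prime_pow hp).mp h1.1
  have hk2 : k ≠ 2 := fun h => h1.2 (by rw [hke, h])
  have hk1 : k = 0 ∨ k = 1 := by omega
  rcases hk1 with hk0 | hk1
  · refine ⟨1, ?_⟩
    rw [hk0, pow_zero, index_eq_one] at hke
    rw [zpowers_one_eq_bot, sup_bot_eq]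
    exact frattini_nongenerating hke
  · rw [hk1, pow_one] at hke
    have hne : N ⊔ frattini P ≠ ⊤ := by
      intro h
      rw [h, index_top] at hke
      exact hp.one_lt.ne hke
    obtain ⟨x, hx⟩ : ∃ x : P, x ∉ N ⊔ frattini P := by
      by_contra hcon
      exact hne (eq_top_iff.mpr fun y _ => by_contra fun hy => hcon ⟨y, hy⟩)
    refine ⟨x, ?_⟩
    apply frattini_nongenerating
    have h2 := hlt (N ⊔ frattini P) (N ⊔ zpowers x ⊔ frattini P)
      (sup_le (le_trans le_sup_left le_sup_left) le_sup_right)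
      (fun h => hx (h (le_sup_left (a := N ⊔ zpowers x)
        (le_sup_right (a := N) (mem_zpowers x)))))
    rw [hke] at h2
    rcases (Nat.dvd_prime hp).mp h2.1 with h3 | h3
    · exact index_eq_one.mp h3
    · exact absurd h3 h2.2

/-- If `N ⊔ ⟨x⟩ = P` with `N` normal, then `P / N` is commutative. -/
theorem comm_mod_of_sup_zpowers_eq_top {P : Type*} [Group P] (N : Subgroup P) [N.Normal] (x : P)
    (h : N ⊔ zpowers x = ⊤) (a b : P) : (b * a)⁻¹ * (a * b) ∈ N := by
  have key : ∀ a : P, (QuotientGroup.mk' N a) ∈ zpowers (QuotientGroup.mk' N x) := by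
    intro a
    have h1 : a ∈ N ⊔ zpowers x := by rw [h]; exact mem_top a
    have h2 := mem_map_of_mem (QuotientGroup.mk' N) h1
    rw [Subgroup.map_sup, QuotientGroup.map_mk'_self, MonoidHom.map_zpowers, bot_sup_eq] at h2
    exact h2
  obtain ⟨i, hi⟩ := mem_zpowers_iff.mp (key a)
  obtain ⟨j, hj⟩ := mem_zpowers_iff.mp (key b)
  have h3 : QuotientGroup.mk' N (b * a) = QuotientGroup.mk' N (a * b) := by
    rw [map_mul, map_mul, ← hi, ← hj, ← zpow_add, ← zpow_add, add_comm]
  exact (QuotientGroup.eq (s := N)).mp h3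

/-- In a finite non-commutative group whose Frattini subgroup has index `p ^ 2`, two normal
subgroups not contained in the Frattini subgroup meet nontrivially. -/
theorem inf_ne_bot_of_frattini_index_sq {P : Type*} [Group P] [Finite P] {p : ℕ} [Fact p.Prime]
    (hna : ¬ IsMulCommutative P) (hgen : (frattini P).index = p ^ 2)
    (N₁ N₂ : Subgroup P) [N₁.Normal] [N₂.Normal]
    (h₁ : ¬ N₁ ≤ frattini P) (h₂ : ¬ N₂ ≤ frattini P) : N₁ ⊓ N₂ ≠ ⊥ := by
  intro hbot
  obtain ⟨x₁, hx₁⟩ := exists_sup_zpowers_eq_top hgen N₁ h₁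
  obtain ⟨x₂, hx₂⟩ := exists_sup_zpowers_eq_top hgen N₂ h₂
  apply hna
  refine ⟨⟨fun a b => ?_⟩⟩
  have h1 := comm_mod_of_sup_zpowers_eq_top N₁ x₁ hx₁ a b
  have h2 := comm_mod_of_sup_zpowers_eq_top N₂ x₂ hx₂ a b
  have h3 : (b * a)⁻¹ * (a * b) ∈ N₁ ⊓ N₂ := ⟨h1, h2⟩
  rw [hbot, mem_bot] at h3
  exact (inv_mul_eq_one.mp h3).symm

/-- In a cyclic group, an element of order dividing `p` lies in the subgroup generated by any
nontrivial element of order dividing `p`. -/
theorem mem_zpowers_of_pow_eq_one_of_isCyclic {C : Type*} [Group C] [IsCyclic C] [Finite C]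
    {p : ℕ} [Fact p.Prime] {b c : C} (hb : b ^ p = 1) (hc : c ^ p = 1) (hc1 : c ≠ 1) :
    b ∈ zpowers c := by
  have hp : p.Prime := Fact.out
  have hcomm : ∀ u v : C, u * v = v * u := by
    intro u v
    obtain ⟨g, hg⟩ := IsCyclic.exists_generator (α := C)
    obtain ⟨i, rfl⟩ := mem_zpowers_iff.mp (hg u)
    obtain ⟨j, rfl⟩ := mem_zpowers_iff.mp (hg v)
    rw [← zpow_add, ← zpow_add, add_comm]
  -- the subgroup of elements of order dividing `p`
  let Ω : Subgroup C :=
    { carrier := {y | y ^ p = 1}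
      one_mem' := one_pow p
      mul_mem' := by
        intro u v hu hv
        show (u * v) ^ p = 1
        rw [(show Commute u v from hcomm u v).mul_pow, show u ^ p = 1 from hu,
          show v ^ p = 1 from hv, one_mul]
      inv_mem' := by
        intro u hu
        show u⁻¹ ^ p = 1
        rw [inv_pow, show u ^ p = 1 from hu, inv_one] }
  have hexp : Monoid.exponent Ω ∣ p := by
    apply Monoid.exponent_dvd_of_forall_pow_eq_one
    intro g
    apply Subtype.ext
    rw [Subgroup.coe_pow]
    exact g.2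
  rw [IsCyclic.exponent_eq_card] at hexp
  have hcΩ : zpowers c ≤ Ω := by
    rw [zpowers_le]; exact hc
  have hcard : Nat.card (zpowers c) = p := by
    rw [Nat.card_zpowers]; exact orderOf_eq_prime hc hc1
  have hΩp : Nat.card Ω = p := by
    rcases (Nat.dvd_prime hp).mp hexp with h | h
    · exfalso
      have := Subgroup.card_le_of_le hcΩ
      rw [hcard, h] at this
      exact absurd hp.one_lt (by omega)
    · exact h
  have heq : zpowers c = Ω := Subgroup.eq_of_le_of_card_ge hcΩ (by rw [hΩp, hcard])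
  rw [heq]
  exact hb

/-- Transfer: a central element of `X` lying in the derived subgroup of `X` and in a `p`-subgroup
`T` of index prime to `p` lies in the derived subgroup of `T`. -/
theorem mem_commutator_of_central_of_coprime_index {X : Type*} [Group X] [Finite X] {p : ℕ}
    [Fact p.Prime] (T : Subgroup X) (hT : IsPGroup p T) (hidx : T.index.Coprime p) (z : X)
    (hzT : z ∈ T) (hzc : z ∈ center X) (hzd : z ∈ commutator X) :
    (⟨z, hzT⟩ : T) ∈ commutator T := by
  have key : ∀ (k : ℕ) (g₀ : X), g₀⁻¹ * z ^ k * g₀ ∈ T → g₀⁻¹ * z ^ k * g₀ = z ^ k := by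
    intro k g₀ _
    have h1 : z ^ k ∈ center X := pow_mem hzc k
    rw [mul_assoc, ← (mem_center_iff.mp h1 g₀), inv_mul_cancel_left]
  have h1 := MonoidHom.transfer_eq_pow (Abelianization.of (G := T)) z key
  have h2 : MonoidHom.transfer (Abelianization.of (G := T)) z = 1 :=
    MonoidHom.mem_ker.mp (Abelianization.commutator_subset_ker _ hzd)
  rw [h2] at h1
  have h3 : (⟨z ^ T.index, MonoidHom.transfer_eq_pow_aux z key⟩ : T) ∈ commutator T := by
    rw [← Abelianization.ker_of, MonoidHom.mem_ker]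
    exact h1.symm
  have h4 : (⟨z ^ T.index, MonoidHom.transfer_eq_pow_aux z key⟩ : T) = (⟨z, hzT⟩ : T) ^ T.index :=
    Subtype.ext (by rw [Subgroup.coe_pow])
  rw [h4] at h3
  obtain ⟨k, hk⟩ := (IsPGroup.iff_orderOf.mp hT) (⟨z, hzT⟩ : T)
  have hcop : T.index.Coprime (orderOf (⟨z, hzT⟩ : T)) := by
    rw [hk]; exact Nat.Coprime.pow_right k hidx
  obtain ⟨m, hm⟩ := exists_pow_eq_self_of_coprime hcop
  rw [← hm]
  exact pow_mem h3 m

/-- A group with a normal `p`-complement has a normal subgroup of order prime to `p` with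
quotient a `p`-group. -/
theorem exists_normal_coprime_of_hasNormalPComplement {X : Type*} [Group X] [Finite X] {p : ℕ}
    [Fact p.Prime] (h : Cfsg.HasNormalPComplement p X) :
    ∃ C : Subgroup X, C.Normal ∧ (Nat.card C).Coprime p ∧ ∀ x : X, ∃ k : ℕ, x ^ p ^ k ∈ C := by
  have hp : p.Prime := Fact.out
  obtain ⟨Q, C, hCn, hC⟩ := h
  refine ⟨C, hCn, ?_, ?_⟩
  · rw [← hC.index_eq_card]
    exact (Nat.Prime.coprime_iff_not_dvd hp).mpr Q.not_dvd_index |>.symm
  · intro x
    have h1 : C.index = Nat.card Q := hC.symm.index_eq_card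
    obtain ⟨n, hn⟩ := (Q.isPGroup').exists_card_eq
    refine ⟨n, ?_⟩
    have h2 : (QuotientGroup.mk' C x) ^ p ^ n = 1 := by
      rw [← hn, ← h1, Subgroup.index_eq_card]
      exact pow_card_eq_one'
    rw [← map_pow] at h2
    exact (QuotientGroup.eq_one_iff _).mp h2

/-- A perfect subgroup of a group with a normal `p`-complement has order prime to `p`. -/
theorem card_coprime_of_perfect_of_hasNormalPComplement {X : Type*} [Group X] [Finite X] {p : ℕ}
    [Fact p.Prime] (h : Cfsg.HasNormalPComplement p X) (K : Subgroup X) (hK : ⁅K, K⁆ = K) :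
    (Nat.card K).Coprime p := by
  obtain ⟨C, hCn, hCc, hCp⟩ := exists_normal_coprime_of_hasNormalPComplement h
  have hQp : IsPGroup p (X ⧸ C) := by
    intro y
    obtain ⟨x, rfl⟩ := QuotientGroup.mk_surjective y
    obtain ⟨k, hk⟩ := hCp x
    refine ⟨k, ?_⟩
    rw [← QuotientGroup.mk_pow]
    exact (QuotientGroup.eq_one_iff _).mpr hk
  have hnil : Group.IsNilpotent (X ⧸ C) := hQp.isNilpotent
  have hsol : Group.IsSolvable (X ⧸ C) := inferInstance
  have hB : K.map (QuotientGroup.mk' C) = ⊥ := by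
    by_contra hne
    have h1 := Group.IsSolvable.commutator_lt_of_ne_bot hne
    rw [← Subgroup.map_commutator, hK] at h1
    exact lt_irrefl _ h1
  have hKC : K ≤ C := by
    intro x hx
    have h1 : QuotientGroup.mk' C x ∈ K.map (QuotientGroup.mk' C) := mem_map_of_mem _ hx
    rw [hB, mem_bot] at h1
    exact (QuotientGroup.eq_one_iff _).mp h1
  exact Nat.Coprime.coprime_dvd_left (Subgroup.card_dvd_of_le hKC) hCc

end Cfsg.Agent.Lib.Helper67
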