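-- Two-generated Sylow subgroups: Tate's theorem applied to normal subgroups (helper67).
import Mathlib
import Cfsg.Prelude.Def_Local
import Cfsg.Agent.Lib.Helper67.TwoGenA
import Cfsg.Agent.Lib.Helper55.Tate
import Cfsg.Agent.Lib.Helper22.PComp
import Cfsg.Agent.Lib.Helper22.Comp

set_option autoImplicit false

namespace Cfsg.Agent.Lib.Helper67

open Subgroup

section TwoGenB

variable {G : Type*} [Group G] [Finite G] {p : ℕ} [Fact p.Prime]

/-- A nontrivial normal subgroup does not meet the Sylow subgroup `P` inside the Frattini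
subgroup of `P`, when `O_{p'}(G) = 1` and the Frattini subgroup of `P` has trivial core. -/
theorem not_inf_le_frattini_of_normal (P : Sylow p G) (hcore : Cfsg.pPrimeCore p G = ⊥)
    (hfrat : ((frattini ↥(P : Subgroup G)).map (P : Subgroup G).subtype).normalCore = ⊥)
    (K : Subgroup G) [hKn : K.Normal] (hK : K ≠ ⊥) :
    ¬ (K ⊓ (P : Subgroup G) ≤ (frattini ↥(P : Subgroup G)).map (P : Subgroup G).subtype) := by
  intro h
  have hT := Cfsg.Agent.Lib.Helper55.tate_normal_pComplement P K h
  obtain ⟨C, hCn, hCc, hCp⟩ := exists_normal_coprime_of_hasNormalPComplement hT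
  have h1 : C ≤ Cfsg.pPrimeCore p K := Cfsg.Agent.Lib.Helper22.le_pPrimeCore_of_normal p hCn hCc
  have h2 := Cfsg.Agent.Lib.Helper22.pPrimeCore_map_subtype_le_of_normal p K
  rw [hcore] at h2
  have h3 : Cfsg.pPrimeCore p K = ⊥ := by
    rw [eq_bot_iff]
    intro x hx
    have h4 := h2 (mem_map_of_mem K.subtype hx)
    rw [mem_bot] at h4 ⊢
    exact Subtype.ext h4
  have hC : C = ⊥ := by
    rw [eq_bot_iff, ← h3]; exact h1
  have hKp : IsPGroup p K := by
    intro x
    obtain ⟨k, hk⟩ := hCp x
    rw [hC, mem_bot] at hk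
    exact ⟨k, hk⟩
  have hKP : K ≤ (P : Subgroup G) := hKp.le_sylow_of_normal P
  have h4 : K ≤ ((frattini ↥(P : Subgroup G)).map (P : Subgroup G).subtype).normalCore :=
    Subgroup.normal_le_normalCore.mpr (le_trans (le_inf le_rfl hKP) h)
  rw [hfrat] at h4
  exact hK (eq_bot_iff.mpr h4)

/-- A subgroup normalized by the Sylow subgroup `P` and containing a component does not meet
`P` inside the Frattini subgroup of `P`, when `O_{p'}(G) = 1`. -/
theorem not_inf_le_frattini_of_component (P : Sylow p G) (hcore : Cfsg.pPrimeCore p G = ⊥)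
    (W : Subgroup G) (hPW : (P : Subgroup G) ≤ normalizer (W : Set G))
    (K : Subgroup G) (hK : Cfsg.IsComponent K) (hKW : K ≤ W) :
    ¬ (W ⊓ (P : Subgroup G) ≤ (frattini ↥(P : Subgroup G)).map (P : Subgroup G).subtype) := by
  intro h
  obtain ⟨PM, hPM⟩ : ∃ PM : Sylow p (normalizer (W : Set G)), PM = P.subtype hPW := ⟨_, rfl⟩
  have hcoe : (PM : Subgroup (normalizer (W : Set G))) =
      (P : Subgroup G).subgroupOf (normalizer (W : Set G)) := by
    rw [hPM]; exact Sylow.coe_subtype P hPW
  have hWn : (W.subgroupOf (normalizer (W : Set G))).Normal := Subgroup.normal_in_normalizer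
  have hmem : ∀ m : normalizer (W : Set G), m ∈ (PM : Subgroup (normalizer (W : Set G))) →
      (m : G) ∈ (P : Subgroup G) := by
    intro m hm
    rw [hcoe] at hm
    exact mem_subgroupOf.mp hm
  -- the identification of `P` with the Sylow subgroup of the normalizer
  let φ : ↥(P : Subgroup G) →* ↥(PM : Subgroup (normalizer (W : Set G))) :=
    (Subgroup.inclusion hPW).codRestrict (PM : Subgroup (normalizer (W : Set G)))
      (fun z => by rw [hcoe]; exact mem_subgroupOf.mpr z.2)
  have hφ : Function.Surjective φ := by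
    intro y
    have hy : ((y : normalizer (W : Set G)) : G) ∈ (P : Subgroup G) := hmem y.1 y.2
    exact ⟨⟨_, hy⟩, Subtype.ext (Subtype.ext rfl)⟩
  have hh : W.subgroupOf (normalizer (W : Set G)) ⊓ (PM : Subgroup (normalizer (W : Set G))) ≤
      (frattini ↥(PM : Subgroup (normalizer (W : Set G)))).map
        (PM : Subgroup (normalizer (W : Set G))).subtype := by
    rintro y ⟨hyW, hyP⟩
    have hyW' : (y : G) ∈ W := mem_subgroupOf.mp hyW
    have hyP' : (y : G) ∈ (P : Subgroup G) := hmem y hyP
    obtain ⟨z, hz, hzy⟩ := h ⟨hyW', hyP'⟩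
    refine ⟨φ z, frattini_le_comap_frattini_of_surjective hφ hz, ?_⟩
    exact Subtype.ext hzy
  have hT := Cfsg.Agent.Lib.Helper55.tate_normal_pComplement PM
    (W.subgroupOf (normalizer (W : Set G))) hh
  -- the inclusion of `W` (as a subgroup of its normalizer) into `G`
  let ι : ↥(W.subgroupOf (normalizer (W : Set G))) →* G :=
    (normalizer (W : Set G)).subtype.comp (W.subgroupOf (normalizer (W : Set G))).subtype
  have hι : Function.Injective ι := by
    intro a b hab
    exact Subtype.ext (Subtype.ext hab)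
  have hKr : K ≤ ι.range := by
    intro k hk
    exact ⟨⟨⟨k, le_normalizer (hKW hk)⟩, mem_subgroupOf.mpr (hKW hk)⟩, rfl⟩
  have hmap : (K.comap ι).map ι = K := Subgroup.map_comap_eq_self hKr
  have hperf : ⁅K.comap ι, K.comap ι⁆ = K.comap ι := by
    apply Subgroup.map_injective hι
    rw [Subgroup.map_commutator, hmap]
    exact Cfsg.Agent.Lib.Helper22.IsComponent.perfect hK
  have hc := card_coprime_of_perfect_of_hasNormalPComplement hT (K.comap ι) hperf
  rw [← Subgroup.card_map_of_injective hι, hmap] at hc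
  have hle := Cfsg.Agent.Lib.Helper22.le_pPrimeCore_of_subnormal p hK.1 hc
  rw [hcore] at hle
  exact Cfsg.Agent.Lib.Helper22.IsComponent.ne_bot hK (eq_bot_iff.mpr hle)

/-- If `K ∩ P` is not contained in the Frattini subgroup of the two-generated Sylow subgroup
`P`, then `P` is generated by `K ∩ P` and one element. -/
theorem exists_mem_sup_zpowers_eq (P : Sylow p G)
    (hgen : (frattini ↥(P : Subgroup G)).index = p ^ 2) (K : Subgroup G)
    (hK : ¬ (K ⊓ (P : Subgroup G) ≤ (frattini ↥(P : Subgroup G)).map (P : Subgroup G).subtype)) :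
    ∃ x ∈ (P : Subgroup G), (K ⊓ (P : Subgroup G)) ⊔ zpowers x = (P : Subgroup G) := by
  have h1 : ¬ K.subgroupOf (P : Subgroup G) ≤ frattini ↥(P : Subgroup G) := by
    intro h
    apply hK
    rw [← Subgroup.subgroupOf_map_subtype]
    exact Subgroup.map_mono h
  obtain ⟨x, hx⟩ := exists_sup_zpowers_eq_top hgen _ h1
  refine ⟨x, x.2, ?_⟩
  have h2 := congrArg (Subgroup.map (P : Subgroup G).subtype) hx
  rw [Subgroup.map_sup, Subgroup.subgroupOf_map_subtype, MonoidHom.map_zpowers,
    ← MonoidHom.range_eq_map, Subgroup.range_subtype] at h2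
  exact h2

/-- The image of the two-generated Sylow subgroup `P` modulo a normal subgroup not meeting `P`
inside its Frattini subgroup is cyclic. -/
theorem isCyclic_map_mk_of_not_le (P : Sylow p G)
    (hgen : (frattini ↥(P : Subgroup G)).index = p ^ 2) (K : Subgroup G) [K.Normal]
    (hK : ¬ (K ⊓ (P : Subgroup G) ≤ (frattini ↥(P : Subgroup G)).map (P : Subgroup G).subtype)) :
    IsCyclic ↥((P : Subgroup G).map (QuotientGroup.mk' K)) := by
  obtain ⟨x, hxP, hx⟩ := exists_mem_sup_zpowers_eq P hgen K hK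
  have h : (P : Subgroup G).map (QuotientGroup.mk' K) = zpowers (QuotientGroup.mk' K x) := by
    conv_lhs => rw [← hx]
    rw [Subgroup.map_sup, MonoidHom.map_zpowers]
    have h1 : (K ⊓ (P : Subgroup G)).map (QuotientGroup.mk' K) = ⊥ := by
      rw [eq_bot_iff, ← QuotientGroup.map_mk'_self K]
      exact Subgroup.map_mono inf_le_left
    rw [h1, bot_sup_eq]
  rw [h]
  infer_instance

/-- Two subgroups normalized by the non-commutative two-generated Sylow subgroup `P`, neither
meeting `P` inside its Frattini subgroup, intersect nontrivially. -/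
theorem inf_ne_bot_of_sylow (P : Sylow p G) (hna : ¬ IsMulCommutative ↥(P : Subgroup G))
    (hgen : (frattini ↥(P : Subgroup G)).index = p ^ 2) (K₁ K₂ : Subgroup G)
    (hn₁ : (P : Subgroup G) ≤ normalizer (K₁ : Set G))
    (hn₂ : (P : Subgroup G) ≤ normalizer (K₂ : Set G))
    (h₁ : ¬ (K₁ ⊓ (P : Subgroup G) ≤ (frattini ↥(P : Subgroup G)).map (P : Subgroup G).subtype))
    (h₂ : ¬ (K₂ ⊓ (P : Subgroup G) ≤ (frattini ↥(P : Subgroup G)).map (P : Subgroup G).subtype)) :
    K₁ ⊓ K₂ ≠ ⊥ := by
  intro hbot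
  have : (K₁.subgroupOf (P : Subgroup G)).Normal := Subgroup.normal_subgroupOf_of_le_normalizer hn₁
  have : (K₂.subgroupOf (P : Subgroup G)).Normal := Subgroup.normal_subgroupOf_of_le_normalizer hn₂
  have h1 : ¬ K₁.subgroupOf (P : Subgroup G) ≤ frattini ↥(P : Subgroup G) := by
    intro h
    apply h₁
    rw [← Subgroup.subgroupOf_map_subtype]
    exact Subgroup.map_mono h
  have h2 : ¬ K₂.subgroupOf (P : Subgroup G) ≤ frattini ↥(P : Subgroup G) := by
    intro h
    apply h₂
    rw [← Subgroup.subgroupOf_map_subtype]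
    exact Subgroup.map_mono h
  apply inf_ne_bot_of_frattini_index_sq hna hgen _ _ h1 h2
  rw [eq_bot_iff]
  rintro x ⟨hx1, hx2⟩
  have h3 : (x : G) ∈ K₁ ⊓ K₂ := ⟨mem_subgroupOf.mp hx1, mem_subgroupOf.mp hx2⟩
  rw [hbot, mem_bot] at h3
  rw [mem_bot]
  exact Subtype.ext h3

end TwoGenB

end Cfsg.Agent.Lib.Helper67
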