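-- Two-generated non-commutative Sylow subgroups: the unique minimal normal subgroup (helper67).
import Mathlib
import Cfsg.Prelude.Def_Local
import Cfsg.Agent.Lib.Helper67.TwoGenB
import Cfsg.Agent.Lib.Helper22.PConstr
import Cfsg.Agent.Lib.Helper22.Conj
import Cfsg.Agent.Lib.Helper22.Layer
import Cfsg.Agent.Lib.Helper51.Basic
import Cfsg.Agent.Lib.Helper2.FrattiniP
import Cfsg.Agent.S0051

set_option autoImplicit false

namespace Cfsg.Agent.Lib.Helper67

open Subgroup

section TwoGenC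

variable {G : Type*} [Group G] [Finite G] {p : ℕ} [Fact p.Prime]

/-- Under the hypotheses of the two-generated Sylow theorem there is a least nontrivial normal
subgroup. -/
theorem exists_least_normal (P : Sylow p G) (hna : ¬ IsMulCommutative ↥(P : Subgroup G))
    (hgen : (frattini ↥(P : Subgroup G)).index = p ^ 2) (hcore : Cfsg.pPrimeCore p G = ⊥)
    (hfrat : ((frattini ↥(P : Subgroup G)).map (P : Subgroup G).subtype).normalCore = ⊥) :
    ∃ N₀ : Subgroup G, N₀.Normal ∧ N₀ ≠ ⊥ ∧ ∀ K : Subgroup G, K.Normal → K ≠ ⊥ → N₀ ≤ K := by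
  have hne : (⊤ : Subgroup G) ≠ ⊥ := by
    intro h
    apply hna
    refine ⟨⟨fun a b => ?_⟩⟩
    have key : ∀ g : G, g = 1 := by
      intro g
      have h1 : g ∈ (⊤ : Subgroup G) := mem_top g
      rwa [h, mem_bot] at h1
    apply Subtype.ext
    rw [Subgroup.coe_mul, Subgroup.coe_mul, key (a : G), key (b : G)]
  obtain ⟨N₀, hN₀⟩ := (Set.toFinite {K : Subgroup G | K.Normal ∧ K ≠ ⊥}).exists_minimal
    ⟨⊤, Subgroup.normal_top, hne⟩
  have hN₀n : N₀.Normal := hN₀.prop.1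
  refine ⟨N₀, hN₀n, hN₀.prop.2, ?_⟩
  intro K hKn hK
  have hinf : N₀ ⊓ K ≠ ⊥ := by
    apply inf_ne_bot_of_sylow P hna hgen N₀ K
    · rw [normalizer_eq_top_iff.mpr hN₀n]; exact le_top
    · rw [normalizer_eq_top_iff.mpr hKn]; exact le_top
    · exact not_inf_le_frattini_of_normal P hcore hfrat N₀ hN₀.prop.2
    · exact not_inf_le_frattini_of_normal P hcore hfrat K hK
  have hmem : N₀ ⊓ K ∈ {K : Subgroup G | K.Normal ∧ K ≠ ⊥} :=
    ⟨Subgroup.normal_inf_normal N₀ K, hinf⟩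
  exact le_trans (hN₀.le_of_le hmem inf_le_left) inf_le_right

/-- If `O_p(G) ≠ 1`, then `E(G) = 1` and `O_p(G)` is the least nontrivial normal subgroup, which
is central in `O_p(G)`. -/
theorem pCore_le_of_pCore_ne_bot (P : Sylow p G)
    (hgen : (frattini ↥(P : Subgroup G)).index = p ^ 2) (hcore : Cfsg.pPrimeCore p G = ⊥)
    (hfrat : ((frattini ↥(P : Subgroup G)).map (P : Subgroup G).subtype).normalCore = ⊥)
    (N₀ : Subgroup G) (hN₀n : N₀.Normal) (hN₀ : N₀ ≠ ⊥)
    (hmin : ∀ K : Subgroup G, K.Normal → K ≠ ⊥ → N₀ ≤ K) (hF : Cfsg.pCore p G ≠ ⊥) :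
    Cfsg.layer G = ⊥ ∧ Cfsg.pCore p G ≤ N₀ ∧
      ∀ n ∈ N₀, ∀ f ∈ Cfsg.pCore p G, n * f = f * n := by
  have hp : p.Prime := Fact.out
  have hFn : (Cfsg.pCore p G).Normal := Cfsg.Agent.Lib.Helper22.pCore_normal' p G
  have hFp : IsPGroup p (Cfsg.pCore p G) := Cfsg.Agent.Lib.Helper22.pCore_isPGroup' p G
  have hFP : Cfsg.pCore p G ≤ (P : Subgroup G) := Cfsg.Agent.Lib.Helper55.pCore_le_sylow P
  -- (a) the least normal subgroup is central in `O_p(G)`
  have hZn : (Cfsg.pCore p G ⊓ centralizer (Cfsg.pCore p G : Set G)).Normal := inferInstance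
  have hZne : Cfsg.pCore p G ⊓ centralizer (Cfsg.pCore p G : Set G) ≠ ⊥ := by
    have : Nontrivial ↥(Cfsg.pCore p G) := (Subgroup.nontrivial_iff_ne_bot _).mpr hF
    have := hFp.center_nontrivial
    obtain ⟨z, hz⟩ := exists_ne (1 : center ↥(Cfsg.pCore p G))
    intro hbot
    have hmem : ((z : ↥(Cfsg.pCore p G)) : G) ∈
        Cfsg.pCore p G ⊓ centralizer (Cfsg.pCore p G : Set G) := by
      refine Subgroup.mem_inf.mpr ⟨(z : ↥(Cfsg.pCore p G)).2, ?_⟩
      rw [mem_centralizer_iff]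
      intro f hf
      have h1 := mem_center_iff.mp z.2 ⟨f, hf⟩
      exact congrArg Subtype.val h1
    rw [hbot, mem_bot] at hmem
    apply hz
    exact Subtype.ext (Subtype.ext hmem)
  have hN₀Z := hmin _ hZn hZne
  have hN₀F : N₀ ≤ Cfsg.pCore p G := le_trans hN₀Z inf_le_left
  have hcomm : ∀ n ∈ N₀, ∀ f ∈ Cfsg.pCore p G, n * f = f * n := by
    intro n hn f hf
    exact (mem_centralizer_iff.mp (Subgroup.mem_inf.mp (hN₀Z hn)).2 f hf).symm
  have hΦ : ¬ N₀ ≤ (frattini ↥(P : Subgroup G)).map (P : Subgroup G).subtype := by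
    intro h
    have h4 : N₀ ≤ ((frattini ↥(P : Subgroup G)).map (P : Subgroup G).subtype).normalCore :=
      Subgroup.normal_le_normalCore.mpr h
    rw [hfrat] at h4
    exact hN₀ (eq_bot_iff.mpr h4)
  -- (b) the layer is trivial
  have hE : Cfsg.layer G = ⊥ := by
    by_contra hE
    have hEn : (Cfsg.layer G).Normal := Cfsg.Agent.Lib.Helper22.layer_normal' G
    have hN₀E : N₀ ≤ Cfsg.layer G := hmin _ hEn hE
    apply hΦ
    intro n hn
    have hnE := hN₀E hn
    have hnF := hN₀F hn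
    have hnP := hFP hnF
    have hEF : ⁅Cfsg.layer G, Cfsg.fittingSubgroup G⁆ = ⊥ :=
      Cfsg.Agent.Lib.Helper22.commutator_layer_fittingSubgroup
    rw [Cfsg.Agent.Lib.Helper22.fittingSubgroup_eq_pCore_of_pPrimeCore_eq_bot hcore] at hEF
    have hcomm' := Cfsg.Agent.Lib.Helper22.comm_of_commutator_eq_bot hEF
    have hT : IsPGroup p ((P : Subgroup G).subgroupOf (Cfsg.layer G)) :=
      P.isPGroup'.comap_subtype
    have hidx : ((P : Subgroup G).subgroupOf (Cfsg.layer G)).index.Coprime p := by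
      have h1 := Cfsg.Agent.Lib.Helper51.not_dvd_relIndex_normal P (Cfsg.layer G)
      exact ((Nat.Prime.coprime_iff_not_dvd hp).mpr h1).symm
    have hzc : (⟨n, hnE⟩ : ↥(Cfsg.layer G)) ∈ center ↥(Cfsg.layer G) := by
      rw [mem_center_iff]
      intro e
      apply Subtype.ext
      exact hcomm' e e.2 n hnF
    have hzd : (⟨n, hnE⟩ : ↥(Cfsg.layer G)) ∈ commutator ↥(Cfsg.layer G) := by
      have h1 : commutator ↥(Cfsg.layer G) = ⊤ := by
        rw [_root_.commutator_def]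
        apply Subgroup.map_injective (Cfsg.layer G).subtype_injective
        rw [Subgroup.map_commutator, ← MonoidHom.range_eq_map, Subgroup.range_subtype]
        exact Cfsg.Agent.Lib.Helper22.layer_perfect
      rw [h1]; exact mem_top _
    have hmem := mem_commutator_of_central_of_coprime_index _ hT hidx ⟨n, hnE⟩
      (mem_subgroupOf.mpr hnP) hzc hzd
    let j : ↥((P : Subgroup G).subgroupOf (Cfsg.layer G)) →* ↥(P : Subgroup G) :=
      ((Cfsg.layer G).subtype.comp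
        ((P : Subgroup G).subgroupOf (Cfsg.layer G)).subtype).codRestrict (P : Subgroup G)
        (fun t => mem_subgroupOf.mp t.2)
    have h5 : j ⟨⟨n, hnE⟩, mem_subgroupOf.mpr hnP⟩ ∈ commutator ↥(P : Subgroup G) := by
      rw [← Abelianization.ker_of, MonoidHom.mem_ker]
      have h6 := Abelianization.commutator_subset_ker (Abelianization.of.comp j) hmem
      exact MonoidHom.mem_ker.mp h6
    have h6 := Cfsg.Agent.Lib.Helper2.commutator_le_frattini P.isPGroup' h5
    exact ⟨_, h6, rfl⟩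
  refine ⟨hE, ?_, hcomm⟩
  -- (c) `O_p(G)` is contained in the least normal subgroup
  by_contra hFN
  have hexp : ∀ y ∈ Cfsg.pCore p G, y ^ p = 1 := by
    intro y hy
    have h1 : y ^ p ∈ ((frattini ↥(P : Subgroup G)).map (P : Subgroup G).subtype).normalCore := by
      intro b
      rw [← conj_pow]
      have hb : b * y * b⁻¹ ∈ (P : Subgroup G) := hFP (hFn.conj_mem y hy b)
      exact ⟨⟨b * y * b⁻¹, hb⟩ ^ p,
        Cfsg.Agent.Lib.Helper2.pow_mem_frattini P.isPGroup' _, rfl⟩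
    rw [hfrat, mem_bot] at h1
    exact h1
  have hA := not_inf_le_frattini_of_normal P hcore hfrat N₀ hN₀
  obtain ⟨x, hxP, hx⟩ := exists_mem_sup_zpowers_eq P hgen N₀ hA
  rw [inf_of_le_left (le_trans hN₀F hFP)] at hx
  obtain ⟨a, haF, haN⟩ := SetLike.not_le_iff_exists.mp hFN
  have haP : a ∈ (N₀ ⊔ zpowers x : Subgroup G) := by rw [hx]; exact hFP haF
  rw [← SetLike.mem_coe, Subgroup.normal_mul, Set.mem_mul] at haP
  obtain ⟨n, hn, b, hb, hnb⟩ := haP
  have hbF : b ∈ Cfsg.pCore p G := by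
    have h1 : b = n⁻¹ * a := by rw [← hnb]; group
    rw [h1]; exact mul_mem (inv_mem (hN₀F hn)) haF
  have hbN : b ∉ N₀ := by
    intro h; apply haN; rw [← hnb]; exact mul_mem hn h
  have hbp : b ^ p = 1 := hexp b hbF
  have hAK : zpowers x ⊓ N₀ = ⊥ := by
    rw [eq_bot_iff]
    intro c hc
    obtain ⟨hcx, hcN⟩ := Subgroup.mem_inf.mp hc
    rw [mem_bot]
    by_contra hc1
    have hcp : c ^ p = 1 := hexp c (hN₀F hcN)
    have h1 : (⟨b, hb⟩ : zpowers x) ∈ zpowers (⟨c, hcx⟩ : zpowers x) := by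
      apply mem_zpowers_of_pow_eq_one_of_isCyclic (p := p)
      · exact Subtype.ext hbp
      · exact Subtype.ext hcp
      · intro h; exact hc1 (congrArg Subtype.val h)
    obtain ⟨k, hk⟩ := mem_zpowers_iff.mp h1
    have h2 : c ^ k = b := by
      have h3 := congrArg Subtype.val hk
      rw [Subgroup.coe_zpow] at h3
      exact h3
    apply hbN
    rw [← h2]; exact zpow_mem hcN k
  -- Gaschütz: the least normal subgroup has a complement
  have : IsMulCommutative ↥N₀ :=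
    ⟨⟨fun u v => Subtype.ext (hcomm u u.2 v (hN₀F v.2))⟩⟩
  have hcop : (Nat.card N₀).Coprime (P : Subgroup G).index := by
    obtain ⟨k, hk⟩ := (hFp.to_le hN₀F).exists_card_eq
    rw [hk]
    exact Nat.Coprime.pow_left k ((Nat.Prime.coprime_iff_not_dvd hp).mpr P.not_dvd_index)
  obtain ⟨L, hL⟩ := Cfsg.Agent.S0051.result N₀ (P : Subgroup G) (le_trans hN₀F hFP) hcop
    (zpowers x) ((zpowers_le).mpr hxP) hAK hx
  have hMn : (Cfsg.pCore p G ⊓ L).Normal := by
    constructor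
    intro m hm' g
    have hm := Subgroup.mem_inf.mp hm'
    have hg : g ∈ (N₀ ⊔ L : Subgroup G) := by rw [hL.sup_eq_top]; exact mem_top g
    rw [← SetLike.mem_coe, Subgroup.normal_mul, Set.mem_mul] at hg
    obtain ⟨n, hn, l, hl, rfl⟩ := hg
    have h1F : l * m * l⁻¹ ∈ Cfsg.pCore p G := hFn.conj_mem m hm.1 l
    have h1 : l * m * l⁻¹ ∈ Cfsg.pCore p G ⊓ L :=
      Subgroup.mem_inf.mpr ⟨h1F, mul_mem (mul_mem hl hm.2) (inv_mem hl)⟩
    have h2 : n * l * m * (n * l)⁻¹ = l * m * l⁻¹ := by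
      have h3 := hcomm n hn (l * m * l⁻¹) h1F
      calc n * l * m * (n * l)⁻¹ = (n * (l * m * l⁻¹)) * n⁻¹ := by group
        _ = ((l * m * l⁻¹) * n) * n⁻¹ := by rw [h3]
        _ = l * m * l⁻¹ := by group
    rw [h2]; exact h1
  have hMne : Cfsg.pCore p G ⊓ L ≠ ⊥ := by
    intro hbot
    have hg : a ∈ (N₀ ⊔ L : Subgroup G) := by rw [hL.sup_eq_top]; exact mem_top a
    rw [← SetLike.mem_coe, Subgroup.normal_mul, Set.mem_mul] at hg
    obtain ⟨n, hn, l, hl, hnl⟩ := hg
    have hlF : l ∈ Cfsg.pCore p G := by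
      have h1 : l = n⁻¹ * a := by rw [← hnl]; group
      rw [h1]; exact mul_mem (inv_mem (hN₀F hn)) haF
    have h2 : l ∈ Cfsg.pCore p G ⊓ L := Subgroup.mem_inf.mpr ⟨hlF, hl⟩
    rw [hbot, mem_bot] at h2
    apply haN
    rw [← hnl, h2, mul_one]; exact hn
  have h7 := hmin _ hMn hMne
  have h8 : N₀ ≤ N₀ ⊓ L := le_inf le_rfl (le_trans h7 inf_le_right)
  rw [hL.disjoint.eq_bot] at h8
  exact hN₀ (eq_bot_iff.mpr h8)

/-- If `F(G) = 1`, the layer lies in the least nontrivial normal subgroup. -/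
theorem layer_le_of_fitting_eq_bot (N₀ : Subgroup G) (hN₀n : N₀.Normal) (hN₀ : N₀ ≠ ⊥)
    (hmin : ∀ K : Subgroup G, K.Normal → K ≠ ⊥ → N₀ ≤ K) (hF : Cfsg.fittingSubgroup G = ⊥) :
    Cfsg.layer G ≤ N₀ := by
  rw [Cfsg.Agent.Lib.Helper22.layer_le_iff]
  intro L hL
  rcases Cfsg.Agent.Lib.Helper22.component_le_or_commute_normal hL hN₀n with h | h
  · exact h
  · exfalso
    have hCn : (centralizer (N₀ : Set G)).Normal := inferInstance
    have hLC : L ≤ centralizer (N₀ : Set G) := Subgroup.commutator_eq_bot_iff_le_centralizer.mp h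
    have hCne : centralizer (N₀ : Set G) ≠ ⊥ := by
      intro hb
      rw [hb] at hLC
      exact Cfsg.Agent.Lib.Helper22.IsComponent.ne_bot hL (eq_bot_iff.mpr hLC)
    have h1 := hmin _ hCn hCne
    have h2 : N₀ ≤ Cfsg.fittingSubgroup G :=
      Cfsg.Agent.Lib.Helper22.le_fittingSubgroup_of_comm hN₀n
        (fun a ha b hb => mem_centralizer_iff.mp (h1 hb) a ha)
    rw [hF] at h2
    exact hN₀ (eq_bot_iff.mpr h2)

/-- If `F(G) = 1`, the Sylow subgroup `P` permutes the components transitively. -/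
theorem exists_conj_component (P : Sylow p G) (hna : ¬ IsMulCommutative ↥(P : Subgroup G))
    (hgen : (frattini ↥(P : Subgroup G)).index = p ^ 2) (hcore : Cfsg.pPrimeCore p G = ⊥)
    (hF : Cfsg.fittingSubgroup G = ⊥) (K L : Subgroup G) (hK : Cfsg.IsComponent K)
    (hL : Cfsg.IsComponent L) :
    ∃ x ∈ (P : Subgroup G), L = K.map (MulAut.conj x).toMonoidHom := by
  by_contra hcon
  have hcon' : ∀ x ∈ (P : Subgroup G), L ≠ K.map (MulAut.conj x).toMonoidHom :=
    fun x hx h => hcon ⟨x, hx, h⟩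
  obtain ⟨O, hO⟩ : ∃ O : Set (Subgroup G),
      O = {K' | ∃ x ∈ (P : Subgroup G), K' = K.map (MulAut.conj x).toMonoidHom} := ⟨_, rfl⟩
  have hmemO : ∀ K', K' ∈ O ↔ ∃ x ∈ (P : Subgroup G), K' = K.map (MulAut.conj x).toMonoidHom := by
    intro K'; rw [hO]; rfl
  have hconjconj : ∀ (x y : G) (H : Subgroup G),
      (H.map (MulAut.conj x).toMonoidHom).map (MulAut.conj y).toMonoidHom =
        H.map (MulAut.conj (y * x)).toMonoidHom := by
    intro x y H
    ext g
    rw [Cfsg.Agent.Lib.Helper22.mem_map_conj_iff, Cfsg.Agent.Lib.Helper22.mem_map_conj_iff,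
      Cfsg.Agent.Lib.Helper22.mem_map_conj_iff]
    have e : x⁻¹ * (y⁻¹ * g * y) * x = (y * x)⁻¹ * g * (y * x) := by group
    rw [e]
  have hconjone : ∀ H : Subgroup G, H.map (MulAut.conj (1 : G)).toMonoidHom = H := by
    intro H
    ext g
    rw [Cfsg.Agent.Lib.Helper22.mem_map_conj_iff, inv_one, one_mul, mul_one]
  have hOcomp : ∀ K' ∈ O, Cfsg.IsComponent K' := by
    intro K' hK'
    obtain ⟨x, hx, rfl⟩ := (hmemO K').mp hK'
    exact Cfsg.Agent.Lib.Helper22.isComponent_map_equiv (MulAut.conj x) hK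
  have hKO : K ∈ O := by
    rw [hmemO]; exact ⟨1, one_mem _, (hconjone K).symm⟩
  have hOconj : ∀ y ∈ (P : Subgroup G), ∀ K' ∈ O, K'.map (MulAut.conj y).toMonoidHom ∈ O := by
    intro y hy K' hK'
    obtain ⟨x, hx, rfl⟩ := (hmemO K').mp hK'
    rw [hmemO]
    exact ⟨y * x, mul_mem hy hx, hconjconj x y K⟩
  obtain ⟨E₁, hE₁⟩ : ∃ E₁ : Subgroup G, E₁ = sSup O := ⟨_, rfl⟩
  obtain ⟨E₂, hE₂⟩ : ∃ E₂ : Subgroup G,
      E₂ = sSup {L' | Cfsg.IsComponent L' ∧ L' ∉ O} := ⟨_, rfl⟩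
  have hK1 : K ≤ E₁ := by rw [hE₁]; exact le_sSup hKO
  have hL2 : L ≤ E₂ := by
    rw [hE₂]
    apply le_sSup
    refine ⟨hL, fun h => ?_⟩
    obtain ⟨x, hx, h'⟩ := (hmemO L).mp h
    exact hcon' x hx h'
  have hn₁ : (P : Subgroup G) ≤ normalizer (E₁ : Set G) := by
    apply Cfsg.Agent.Lib.Helper22.le_normalizer_of_conj_mem
    intro y hy g hg
    have h1 : E₁.map (MulAut.conj y).toMonoidHom ≤ E₁ := by
      rw [Subgroup.map_le_iff_le_comap]
      conv_lhs => rw [hE₁]
      apply sSup_le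
      intro K' hK'
      rw [← Subgroup.map_le_iff_le_comap, hE₁]
      exact le_sSup (hOconj y hy K' hK')
    exact h1 (Cfsg.Agent.Lib.Helper22.conj_mem_map_conj y hg)
  have hn₂ : (P : Subgroup G) ≤ normalizer (E₂ : Set G) := by
    apply Cfsg.Agent.Lib.Helper22.le_normalizer_of_conj_mem
    intro y hy g hg
    have h1 : E₂.map (MulAut.conj y).toMonoidHom ≤ E₂ := by
      rw [Subgroup.map_le_iff_le_comap]
      conv_lhs => rw [hE₂]
      apply sSup_le
      rintro L' ⟨hL'c, hL'O⟩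
      rw [← Subgroup.map_le_iff_le_comap, hE₂]
      apply le_sSup
      refine ⟨Cfsg.Agent.Lib.Helper22.isComponent_map_equiv (MulAut.conj y) hL'c,
        fun h => hL'O ?_⟩
      have h2 := hOconj y⁻¹ (inv_mem hy) _ h
      rw [hconjconj, inv_mul_cancel, hconjone] at h2
      exact h2
    exact h1 (Cfsg.Agent.Lib.Helper22.conj_mem_map_conj y hg)
  have hcomm : ∀ a ∈ E₁, ∀ b ∈ E₂, a * b = b * a := by
    have h1 : ⁅E₁, E₂⁆ = ⊥ := by
      rw [Subgroup.commutator_eq_bot_iff_le_centralizer, hE₁]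
      apply sSup_le
      intro K' hK'
      rw [← Subgroup.commutator_eq_bot_iff_le_centralizer, Subgroup.commutator_comm,
        Subgroup.commutator_eq_bot_iff_le_centralizer, hE₂]
      apply sSup_le
      rintro L' ⟨hL'c, hL'O⟩
      rw [← Subgroup.commutator_eq_bot_iff_le_centralizer]
      exact Cfsg.Agent.Lib.Helper22.components_commute hL'c (hOcomp K' hK')
        (fun h => hL'O (h ▸ hK'))
    exact Cfsg.Agent.Lib.Helper22.comm_of_commutator_eq_bot h1
  have hE₁E : E₁ ≤ Cfsg.layer G := by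
    rw [hE₁]
    apply sSup_le
    intro K' hK'
    exact Cfsg.Agent.Lib.Helper22.component_le_layer (hOcomp K' hK')
  have hinf : E₁ ⊓ E₂ = ⊥ := by
    rw [eq_bot_iff]
    intro z hz
    obtain ⟨hz1, hz2⟩ := Subgroup.mem_inf.mp hz
    have hEn : (Cfsg.layer G).Normal := Cfsg.Agent.Lib.Helper22.layer_normal' G
    have hAn : (Cfsg.layer G ⊓ centralizer (Cfsg.layer G : Set G)).Normal := inferInstance
    have hA : Cfsg.layer G ⊓ centralizer (Cfsg.layer G : Set G) ≤ Cfsg.fittingSubgroup G :=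
      Cfsg.Agent.Lib.Helper22.le_fittingSubgroup_of_comm hAn
        (fun a ha b hb => mem_centralizer_iff.mp (Subgroup.mem_inf.mp hb).2 a
          (Subgroup.mem_inf.mp ha).1)
    rw [hF] at hA
    apply hA
    refine Subgroup.mem_inf.mpr ⟨hE₁E hz1, ?_⟩
    have h1 : Cfsg.layer G ≤ centralizer ({z} : Set G) := by
      rw [Cfsg.Agent.Lib.Helper22.layer_le_iff]
      intro L' hL' l hl
      rw [mem_centralizer_iff]
      intro h hh
      rw [Set.mem_singleton_iff] at hh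
      rw [hh]
      by_cases hO' : L' ∈ O
      · have h2 : l ∈ E₁ := by rw [hE₁]; exact le_sSup hO' hl
        exact (hcomm l h2 z hz2).symm
      · have h2 : l ∈ E₂ := by
          rw [hE₂]
          exact le_sSup (show L' ∈ {L' | Cfsg.IsComponent L' ∧ L' ∉ O} from ⟨hL', hO'⟩) hl
        exact hcomm z hz1 l h2
    rw [mem_centralizer_iff]
    intro h hh
    exact (mem_centralizer_iff.mp (h1 hh) z (Set.mem_singleton z)).symm
  have h₁ := not_inf_le_frattini_of_component P hcore E₁ hn₁ K hK hK1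
  have h₂ := not_inf_le_frattini_of_component P hcore E₂ hn₂ L hL hL2
  exact inf_ne_bot_of_sylow P hna hgen E₁ E₂ hn₁ hn₂ h₁ h₂ hinf

end TwoGenC

end Cfsg.Agent.Lib.Helper67
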